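import Mathlib.LinearAlgebra.TensorProduct.Tower
import Mathlib.LinearAlgebra.TensorProduct.Basis
import Mathlib.LinearAlgebra.Basis.VectorSpace
import Mathlib.RingTheory.TensorProduct.Free
import Mathlib.FieldTheory.Galois.Basic
import Mathlib.LinearAlgebra.LinearIndependent.Lemmas
import Groth.Prelude.Def_GalDesc
/-! # Galois descent for vector spaces along a finite Galois extension -/

universe u v w x y

open scoped TensorProduct

namespace Groth.GaloisBrauer

variable {k : Type u} {K : Type v} [Field k] [Field K] [Algebra k K] [FiniteDimensional k K]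
  [IsGalois k K] {M : Type w} [AddCommGroup M] [Module K M]

omit [IsGalois k K] in
/-- The fixed vectors of a semilinear action span. -/
theorem span_fixed_eq_top (T : (K ≃ₐ[k] K) → M →+ M) (h1 : ∀ x, T 1 x = x)
    (hmul : ∀ σ τ x, T (σ * τ) x = T σ (T τ x)) (hsemi : ∀ σ (c : K) x, T σ (c • x) = σ c • T σ x) :
    Submodule.span K {x | ∀ σ, T σ x = x} = ⊤ := by
  classical
  refine eq_top_iff.2 fun v _ => ?_
  by_contra hv
  obtain ⟨f, hfv, hf⟩ := Submodule.exists_dual_map_eq_bot_of_notMem hv inferInstance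
  have hzero : ∀ x : K, ∑ σ : K ≃ₐ[k] K, f (T σ v) * σ x = 0 := by
    intro x
    have hw : (∑ σ : K ≃ₐ[k] K, T σ (x • v)) ∈ Submodule.span K {x | ∀ σ, T σ x = x} := by
      refine Submodule.subset_span fun τ => ?_
      rw [map_sum]
      simp only [← hmul]
      exact Equiv.sum_comp (Equiv.mulLeft τ) fun σ => T σ (x • v)
    have h := Submodule.mem_map_of_mem (f := f) hw
    rw [hf, Submodule.mem_bot, map_sum] at h
    rw [← h]
    refine Finset.sum_congr rfl fun σ _ => ?_
    rw [hsemi, f.map_smul, smul_eq_mul, mul_comm]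
  have hind := (linearIndependent_monoidHom K K).comp
    (fun σ : K ≃ₐ[k] K => (σ : K →* K)) (fun σ τ h => AlgEquiv.ext fun x => DFunLike.congr_fun h x)
  have := Fintype.linearIndependent_iff.1 hind (fun σ => f (T σ v)) (funext fun x => by
    simpa using hzero x) 1
  simp only [h1] at this
  exact hfv this

variable [Module k M] [IsScalarTower k K M]

/-- Fixed vectors independent over the base stay independent. -/
theorem linearIndependent_of_fixed (T : (K ≃ₐ[k] K) → M →+ M)
    (hsemi : ∀ σ (c : K) x, T σ (c • x) = σ c • T σ x) {ι : Type x} (v : ι → M)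
    (hv : ∀ i σ, T σ (v i) = v i) (hli : LinearIndependent k v) : LinearIndependent K v := by
  classical
  rw [linearIndependent_iff'] at hli ⊢
  intro s
  induction s using Finset.induction_on with
  | empty => simp
  | @insert j s hj ih =>
    intro c hc
    by_cases hcj : c j = 0
    · rw [Finset.sum_insert hj, hcj, zero_smul, zero_add] at hc
      intro i hi
      rcases Finset.mem_insert.1 hi with rfl | hi
      · exact hcj
      · exact ih c hc i hi
    · exfalso
      let d := fun i => (c j)⁻¹ * c i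
      have hd : ∑ i ∈ insert j s, d i • v i = 0 := by
        simp only [d, mul_smul, ← Finset.smul_sum, hc, smul_zero]
      have hdj : d j = 1 := inv_mul_cancel₀ hcj
      have hk : ∀ i ∈ insert j s, ∃ r : k, algebraMap k K r = d i := by
        intro i hi
        refine (IsGalois.mem_range_algebraMap_iff_fixed (d i)).2 fun σ => ?_
        have hσ : ∑ i ∈ insert j s, σ (d i) • v i = 0 := by
          have h := congrArg (T σ) hd
          simp only [map_sum, map_zero, hsemi, hv] at h
          exact h
        have h : ∑ i ∈ s, (σ (d i) - d i) • v i = 0 := by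
          have h := sub_eq_zero.2 (hσ.trans hd.symm)
          rw [Finset.sum_insert hj, Finset.sum_insert hj, hdj, map_one, add_sub_add_left_eq_sub,
            ← Finset.sum_sub_distrib] at h
          simpa only [sub_smul] using h
        rcases Finset.mem_insert.1 hi with rfl | hi
        · rw [hdj, map_one]
        · exact sub_eq_zero.1 (ih _ h i hi)
      choose! r hr using hk
      have h0 := hli (insert j s) r (by
        rw [← hd]
        exact Finset.sum_congr rfl fun i hi => by rw [← hr i hi, algebraMap_smul]) j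
          (Finset.mem_insert_self _ _)
      have := hr j (Finset.mem_insert_self _ _)
      rw [h0, map_zero, hdj] at this
      exact zero_ne_one this

/-- Descent: the fixed vectors of a semilinear action form a `k`-structure. -/
theorem liftBaseChange_bijective (T : (K ≃ₐ[k] K) → M →+ M) (h1 : ∀ x, T 1 x = x)
    (hmul : ∀ σ τ x, T (σ * τ) x = T σ (T τ x)) (hsemi : ∀ σ (c : K) x, T σ (c • x) = σ c • T σ x)
    {W : Type x} [AddCommGroup W] [Module k W] (ι : W →ₗ[k] M) (hι : Function.Injective ι)
    (hW : ∀ x, x ∈ LinearMap.range ι ↔ ∀ σ, T σ x = x) :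
    Function.Bijective (ι.liftBaseChange K) := by
  let b := Module.Basis.ofVectorSpace k W
  constructor
  · have hli : LinearIndependent k (ι ∘ b) :=
      b.linearIndependent.map' ι (LinearMap.ker_eq_bot.2 hι)
    have hK := linearIndependent_of_fixed T hsemi (ι ∘ b) (fun i => (hW _).1 ⟨b i, rfl⟩) hli
    refine LinearMap.ker_eq_bot.1 ?_
    refine LinearMap.ker_eq_bot'.2 fun z hz => ?_
    let B := Algebra.TensorProduct.basis K b
    have h : ι.liftBaseChange K = B.constr K (ι ∘ b) := B.ext fun i => by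
      rw [B.constr_basis]; simp [B]
    rw [h] at hz
    exact (B.repr.map_eq_zero_iff).1 (by
      rw [Module.Basis.constr_apply] at hz
      exact linearIndependent_iff.1 hK _ hz)
  · refine LinearMap.range_eq_top.1 ?_
    rw [LinearMap.range_liftBaseChange, ← span_fixed_eq_top T h1 hmul hsemi]
    congr 1
    ext x
    exact hW x

variable [DistribMulAction (K ≃ₐ[k] K) M] [SMulDistribClass (K ≃ₐ[k] K) K M]

omit [FiniteDimensional k K] [IsGalois k K] [Module k M] [IsScalarTower k K M] in
theorem cocycle_one (a : GpH1.OneCocycle (K ≃ₐ[k] K) (M ≃ₗ[K] M)) : a 1 = 1 := by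
  have := a.2 1 1
  rw [one_mul, one_smul] at this
  exact left_eq_mul.1 this

/-- The fixed vectors of a twisted action form a `k`-structure. -/
theorem twist_bijective (a : GpH1.OneCocycle (K ≃ₐ[k] K) (M ≃ₗ[K] M))
    {W : Type x} [AddCommGroup W] [Module k W] (ι : W →ₗ[k] M) (hι : Function.Injective ι)
    (hW : ∀ x, x ∈ LinearMap.range ι ↔ ∀ σ : K ≃ₐ[k] K, a σ (σ • x) = x) :
    Function.Bijective (ι.liftBaseChange K) := by
  refine liftBaseChange_bijective
    (fun σ => ((a σ).toLinearMap.toAddMonoidHom).comp (DistribMulAction.toAddMonoidEnd (K ≃ₐ[k] K) M σ))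
    (fun x => ?_) (fun σ τ x => ?_) (fun σ c x => ?_) ι hι hW
  · show a 1 ((1 : K ≃ₐ[k] K) • x) = x
    rw [one_smul, cocycle_one]; rfl
  · show a (σ * τ) ((σ * τ) • x) = a σ (σ • a τ (τ • x))
    rw [a.2 σ τ]
    show a σ (σ • a τ (σ⁻¹ • (σ * τ) • x)) = _
    rw [← mul_smul, inv_mul_cancel_left]
  · show a σ (σ • c • x) = σ c • a σ (σ • x)
    rw [smul_distrib_smul σ c x, map_smul, AlgEquiv.smul_def]

omit [FiniteDimensional k K] [IsGalois k K] [IsScalarTower k K M] in
/-- The cocycle of the trivialisation attached to a `k`-structure of fixed vectors is the twist. -/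
theorem cocycle_eq_of_fixed (a : GpH1.OneCocycle (K ≃ₐ[k] K) (M ≃ₗ[K] M))
    {W : Type x} [AddCommGroup W] [Module k W] (ι : W →ₗ[k] M)
    (hW : ∀ w : W, ∀ σ : K ≃ₐ[k] K, a σ (σ • ι w) = ι w) (g : M ≃ₗ[K] K ⊗[k] W)
    (hg : ∀ (c : K) w, g.symm (c ⊗ₜ[k] w) = c • ι w) (σ : K ≃ₐ[k] K) :
    GalDesc.cocycle k g σ = a σ := by
  have key : ∀ z, g.symm (σ • z) = a σ (σ • g.symm z) := by
    intro z
    induction z using TensorProduct.induction_on with
    | zero => simp
    | tmul c w =>
      rw [TensorProduct.smul_tmul', hg, hg, smul_distrib_smul σ c (ι w), map_smul, hW]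
    | add p q hp hq => simp only [smul_add, map_add, hp, hq]
  refine LinearEquiv.ext fun x => ?_
  rw [GalDesc.cocycle_apply, key, g.symm_apply_apply, smul_inv_smul]

variable {W : Type x} [AddCommGroup W] [Module k W] {W' : Type y} [AddCommGroup W'] [Module k W']

/-- The invariants of `K ⊗ W` are `W`. -/
theorem exists_tmul_of_fixed (z : K ⊗[k] W) (hz : ∀ σ : K ≃ₐ[k] K, σ • z = z) :
    ∃ w, z = 1 ⊗ₜ[k] w := by
  let b := Module.Basis.ofVectorSpace k W
  let B := Algebra.TensorProduct.basis K b
  have h : ∀ (σ : K ≃ₐ[k] K) (y : K ⊗[k] W) i, B.repr (σ • y) i = σ (B.repr y i) := by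
    intro σ y i
    induction y using TensorProduct.induction_on with
    | zero => simp
    | tmul c w => simp [B, TensorProduct.smul_tmul']
    | add p q hp hq => simp [smul_add, hp, hq]
  have hr : ∀ i, ∃ r : k, algebraMap k K r = B.repr z i := fun i =>
    (IsGalois.mem_range_algebraMap_iff_fixed _).2 fun σ => by rw [← h, hz]
  choose r hr using hr
  refine ⟨Finsupp.linearCombination k b (Finsupp.onFinset (B.repr z).support r fun i hi => by
    rw [Finsupp.mem_support_iff, ← hr]
    exact fun h => hi ((algebraMap k K).injective (h.trans (map_zero _).symm))), ?_⟩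
  apply B.repr.injective
  ext i
  rw [← hr i]
  simp [B, Finsupp.onFinset]

omit [FiniteDimensional k K] [IsGalois k K] in
theorem one_tmul_injective : Function.Injective fun w : W => (1 : K) ⊗ₜ[k] w := by
  intro p q h
  let b := Module.Basis.ofVectorSpace k W
  refine b.repr.injective (Finsupp.ext fun i => (algebraMap k K).injective ?_)
  have h' := congrArg (fun z => (Algebra.TensorProduct.basis K b).repr z i) h
  simpa using h'

/-- An equivariant isomorphism descends. -/
theorem exists_descended_equiv (E : K ⊗[k] W ≃ₗ[K] K ⊗[k] W')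
    (hE : ∀ (σ : K ≃ₐ[k] K) z, E (σ • z) = σ • E z) :
    ∃ e : W ≃ₗ[k] W', ∀ w, E (1 ⊗ₜ[k] w) = 1 ⊗ₜ[k] e w := by
  have injW : Function.Injective fun w : W => (1 : K) ⊗ₜ[k] w := one_tmul_injective
  have injW' : Function.Injective fun w : W' => (1 : K) ⊗ₜ[k] w := one_tmul_injective
  have h1 : ∀ w, ∃ w', E (1 ⊗ₜ[k] w) = 1 ⊗ₜ[k] w' := fun w =>
    exists_tmul_of_fixed _ fun σ => by rw [← hE, TensorProduct.smul_tmul', smul_one]
  have h2 : ∀ w', ∃ w, E (1 ⊗ₜ[k] w) = 1 ⊗ₜ[k] w' := fun w' => by
    obtain ⟨w, hw⟩ := exists_tmul_of_fixed (E.symm (1 ⊗ₜ[k] w')) fun σ => E.injective (by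
      rw [hE, E.apply_symm_apply, TensorProduct.smul_tmul', smul_one])
    exact ⟨w, by rw [← hw, E.apply_symm_apply]⟩
  choose e he using h1
  let el : W →ₗ[k] W' :=
    { toFun := e
      map_add' := fun p q => injW' <| by
        show (1 : K) ⊗ₜ[k] e (p + q) = 1 ⊗ₜ[k] (e p + e q)
        rw [← he, TensorProduct.tmul_add, TensorProduct.tmul_add, map_add, he, he]
      map_smul' := fun r p => injW' <| by
        show (1 : K) ⊗ₜ[k] e (r • p) = 1 ⊗ₜ[k] (r • e p)
        rw [← he, TensorProduct.tmul_smul, TensorProduct.tmul_smul, ← algebraMap_smul K r, map_smul, he,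
          algebraMap_smul] }
  refine ⟨LinearEquiv.ofBijective el ⟨fun p q h => injW (E.injective ?_), fun w' => ?_⟩, he⟩
  · show E _ = E _
    rw [he, he]; exact congrArg _ h
  · obtain ⟨w, hw⟩ := h2 w'
    exact ⟨w, injW' (by show (1 : K) ⊗ₜ[k] e w = 1 ⊗ₜ[k] w'; rw [← he, hw])⟩

omit [Module k M] [IsScalarTower k K M] [FiniteDimensional k K] [IsGalois k K] in
/-- Cohomologous cocycles give an equivariant comparison map. -/
theorem equivariant_of_cohomologous {N : Type x} [AddCommGroup N] [Module K N]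
    [DistribMulAction (K ≃ₐ[k] K) N] [SMulDistribClass (K ≃ₐ[k] K) K N]
    {N' : Type y} [AddCommGroup N'] [Module K N']
    [DistribMulAction (K ≃ₐ[k] K) N'] [SMulDistribClass (K ≃ₐ[k] K) K N']
    (g : M ≃ₗ[K] N) (g' : M ≃ₗ[K] N') (c : M ≃ₗ[K] M)
    (h : ∀ σ : K ≃ₐ[k] K, GalDesc.cocycle k g σ = c⁻¹ * GalDesc.cocycle k g' σ * σ • c)
    (σ : K ≃ₐ[k] K) (z : N) :
    (g.symm.trans (c.trans g')) (σ • z) = σ • (g.symm.trans (c.trans g')) z := by
  have h' := LinearEquiv.congr_fun (h σ) (σ • g.symm z)
  change g.symm (σ • g (σ⁻¹ • σ • g.symm z)) =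
    c.symm (g'.symm (σ • g' (σ⁻¹ • σ • c (σ⁻¹ • σ • g.symm z)))) at h'
  simp only [inv_smul_smul, LinearEquiv.apply_symm_apply] at h'
  simp only [LinearEquiv.trans_apply]
  rw [h', c.apply_symm_apply, g'.apply_symm_apply]

end Groth.GaloisBrauer
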