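import Mathlib.LinearAlgebra.Dimension.Constructions
import Mathlib.LinearAlgebra.Matrix.NonsingularInverse
import Mathlib.LinearAlgebra.Matrix.GeneralLinearGroup.Defs
import Mathlib.LinearAlgebra.Determinant
import Groth.Agent.GaloisBrauer.Descent
/-! # Hilbert 90 for `GL_n` -/

universe u v

open scoped TensorProduct MatrixGroups

namespace Groth.GaloisBrauer

theorem exists_gl_fixed {k : Type u} {K : Type v} [Field k] [Field K] [Algebra k K] [FiniteDimensional k K]
    [IsGalois k K] {n : ℕ} (B : (K ≃ₐ[k] K) → GL (Fin n) K)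
    (hB : ∀ σ τ : K ≃ₐ[k] K, (B σ : Matrix (Fin n) (Fin n) K) * (B τ : Matrix (Fin n) (Fin n) K).map σ =
      (B (σ * τ) : Matrix (Fin n) (Fin n) K)) :
    ∃ P : GL (Fin n) K, ∀ σ : K ≃ₐ[k] K,
      (B σ : Matrix (Fin n) (Fin n) K) * (P : Matrix (Fin n) (Fin n) K).map σ = P := by
  let T : (K ≃ₐ[k] K) → (Fin n → K) →+ (Fin n → K) := fun σ =>
    { toFun := fun v => (B σ : Matrix (Fin n) (Fin n) K).mulVec fun i => σ (v i)
      map_zero' := by
        simp only [Pi.zero_apply, map_zero]
        exact Matrix.mulVec_zero _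
      map_add' := fun v w => by
        simp only [Pi.add_apply, map_add]
        exact Matrix.mulVec_add _ (fun i => σ (v i)) (fun i => σ (w i)) }
  have hmap : ∀ (σ : K ≃ₐ[k] K) (M : Matrix (Fin n) (Fin n) K) v i,
      σ (M.mulVec v i) = (M.map σ).mulVec (fun j => σ (v j)) i := fun σ M v i => by
    simp [Matrix.mulVec, dotProduct, map_sum]
  have hmul : ∀ σ τ v, T (σ * τ) v = T σ (T τ v) := fun σ τ v => by
    show (B (σ * τ) : Matrix (Fin n) (Fin n) K).mulVec (fun i => σ (τ (v i))) =
      (B σ : Matrix (Fin n) (Fin n) K).mulVec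
        fun i => σ ((B τ : Matrix (Fin n) (Fin n) K).mulVec (fun j => τ (v j)) i)
    rw [← hB, ← Matrix.mulVec_mulVec]
    congr 1
    funext i
    exact (hmap σ _ _ i).symm
  have hB1 : (B 1 : Matrix (Fin n) (Fin n) K) = 1 := by
    have h := hB 1 1
    rw [one_mul, show (B 1 : Matrix (Fin n) (Fin n) K).map (1 : K ≃ₐ[k] K) = B 1 from Matrix.ext fun _ _ => rfl,
      ← Units.val_mul, Units.val_inj, mul_eq_left] at h
    rw [h]; rfl
  have h1 : ∀ v, T 1 v = v := fun v => by
    show (B 1 : Matrix (Fin n) (Fin n) K).mulVec v = v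
    rw [hB1, Matrix.one_mulVec]
  have hsemi : ∀ σ (c : K) v, T σ (c • v) = σ c • T σ v := fun σ c v => by
    show (B σ : Matrix (Fin n) (Fin n) K).mulVec (fun i => σ (c * v i)) =
      σ c • (B σ : Matrix (Fin n) (Fin n) K).mulVec (fun i => σ (v i))
    rw [← Matrix.mulVec_smul]
    congr 1
    funext i
    exact map_mul σ c (v i)
  let W : Submodule k (Fin n → K) :=
    { carrier := {v | ∀ σ, T σ v = v}
      zero_mem' := fun σ => map_zero _
      add_mem' := fun hv hw σ => by rw [map_add, hv σ, hw σ]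
      smul_mem' := fun r v hv σ => by
        rw [← algebraMap_smul K r v, hsemi, AlgEquiv.commutes, hv σ] }
  have hbij := liftBaseChange_bijective T h1 hmul hsemi W.subtype W.injective_subtype
    fun x => ⟨by rintro ⟨y, rfl⟩; exact y.2, fun h => ⟨⟨x, h⟩, rfl⟩⟩
  let L := LinearEquiv.ofBijective (W.subtype.liftBaseChange K) hbij
  have hfd : FiniteDimensional k W := inferInstance
  have hrank : Module.finrank k W = n := by
    have h := L.finrank_eq
    rwa [Module.finrank_baseChange, Module.finrank_fin_fun] at h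
  let b := Module.finBasisOfFinrankEq k W hrank
  let P : Matrix (Fin n) (Fin n) K := Matrix.of fun i j => (b j : Fin n → K) i
  have hP : IsUnit P := by
    rw [← Matrix.linearIndependent_cols_iff_isUnit]
    exact linearIndependent_of_fixed T hsemi P.col (fun j => (b j).2)
      (b.linearIndependent.map' W.subtype W.ker_subtype)
  refine ⟨hP.unit, fun σ => Matrix.ext fun i j => ?_⟩
  exact congrFun ((b j).2 σ) i

end Groth.GaloisBrauer
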