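import Mathlib.LinearAlgebra.TensorProduct.Tower
import Groth.Prelude.Def_GalDesc
/-! Cocycles of trivialisations are changed cohomologously by maps defined over the base field. -/

universe u v w x y

open scoped TensorProduct

namespace Groth.GaloisBrauer

variable {k : Type u} {K : Type v} [Field k] [Field K] [Algebra k K]

theorem smul_baseChange {W : Type x} [AddCommGroup W] [Module k W] {W' : Type y} [AddCommGroup W']
    [Module k W'] (f : W →ₗ[k] W') (σ : K ≃ₐ[k] K) (z : K ⊗[k] W) :
    f.baseChange K (σ • z) = σ • f.baseChange K z := by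
  induction z using TensorProduct.induction_on with
  | zero => simp
  | tmul a v => simp [TensorProduct.smul_tmul']
  | add a b ha hb => simp [smul_add, map_add, ha, hb]

theorem cocycle_eq_of_equivariant {M : Type w} {N : Type x} {N' : Type y}
    [AddCommGroup M] [Module K M] [DistribMulAction (K ≃ₐ[k] K) M] [SMulDistribClass (K ≃ₐ[k] K) K M]
    [AddCommGroup N] [Module K N] [DistribMulAction (K ≃ₐ[k] K) N] [SMulDistribClass (K ≃ₐ[k] K) K N]
    [AddCommGroup N'] [Module K N'] [DistribMulAction (K ≃ₐ[k] K) N']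
    [SMulDistribClass (K ≃ₐ[k] K) K N']
    (g : M ≃ₗ[K] N) (g' : M ≃ₗ[K] N') (E : N ≃ₗ[K] N')
    (hE : ∀ (σ : K ≃ₐ[k] K) z, E (σ • z) = σ • E z) (σ : K ≃ₐ[k] K) :
    GalDesc.cocycle k g σ =
      (g.trans (E.trans g'.symm))⁻¹ * GalDesc.cocycle k g' σ * σ • (g.trans (E.trans g'.symm)) := by
  ext x
  show g.symm (σ • g (σ⁻¹ • x)) = g.symm (E.symm (g' (g'.symm
    (σ • g' (σ⁻¹ • σ • g'.symm (E (g (σ⁻¹ • x))))))))
  simp [← hE]

end Groth.GaloisBrauer
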