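import Groth.Agent.GaloisBrauer.Descent
import Groth.Agent.GaloisBrauer.DescCocycle
import Groth.Agent.S15968
import Groth.Prelude.Def_GSzCSA
/-! # `PGL_n` as the automorphisms of the split algebra, equivariantly; descent of algebras -/

universe u v w x y

open scoped TensorProduct MatrixGroups
attribute [local instance] CSAGal.matrixAction GpH1.unitsAction CSAGal.pglAction CSAGal.tensorAction

namespace Groth.GaloisBrauer

variable {k : Type u} {K : Type v} [Field k] [Field K] [Algebra k K]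

/-- The isomorphism of `PGL_n(K)` with the automorphisms of `M_n(K)`. -/
noncomputable def pglAut (n : ℕ) :
    Matrix.ProjGenLinGroup (Fin n) K ≃* (Matrix (Fin n) (Fin n) K ≃ₐ[K] Matrix (Fin n) (Fin n) K) :=
  Classical.choose (Groth.Agent.S15968.result K (Fin n))

theorem pglAut_mk {n : ℕ} (C : GL (Fin n) K) (M : Matrix (Fin n) (Fin n) K) :
    pglAut n (Matrix.ProjGenLinGroup.mk C) M =
      (C : Matrix (Fin n) (Fin n) K) * M * ((C⁻¹ : GL (Fin n) K) : Matrix (Fin n) (Fin n) K) :=
  Classical.choose_spec (Groth.Agent.S15968.result K (Fin n)) C M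

theorem pglAut_smul {n : ℕ} (σ : K ≃ₐ[k] K) (x : Matrix.ProjGenLinGroup (Fin n) K) :
    pglAut n (σ • x) = σ • pglAut n x := by
  induction x using Matrix.ProjGenLinGroup.induction_on with
  | mk C =>
    refine AlgEquiv.ext fun M => ?_
    show pglAut n (Matrix.ProjGenLinGroup.mk (σ • C)) M = σ • pglAut n (Matrix.ProjGenLinGroup.mk C) (σ⁻¹ • M)
    rw [pglAut_mk, pglAut_mk, smul_mul', smul_mul', smul_inv_smul]
    rfl

variable [FiniteDimensional k K] [IsGalois k K]
  {A : Type w} [Ring A] [Algebra k A] {A' : Type x} [Ring A'] [Algebra k A']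

/-- An equivariant isomorphism of algebras descends. -/
theorem exists_descended_algEquiv (E : K ⊗[k] A ≃ₐ[K] K ⊗[k] A')
    (hE : ∀ (σ : K ≃ₐ[k] K) z, E (σ • z) = σ • E z) : Nonempty (A ≃ₐ[k] A') := by
  obtain ⟨e, he⟩ := exists_descended_equiv E.toLinearEquiv hE
  have inj := one_tmul_injective (k := k) (K := K) (W := A')
  have he' : ∀ w, E (1 ⊗ₜ[k] w) = 1 ⊗ₜ[k] e w := he
  refine ⟨AlgEquiv.ofLinearEquiv e (inj ?_) fun p q => inj ?_⟩
  · show (1 : K) ⊗ₜ[k] e 1 = 1 ⊗ₜ[k] (1 : A')
    rw [← he', ← Algebra.TensorProduct.one_def, map_one]; rfl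
  · show (1 : K) ⊗ₜ[k] e (p * q) = 1 ⊗ₜ[k] (e p * e q)
    conv_rhs => rw [← one_mul (1 : K), ← Algebra.TensorProduct.tmul_mul_tmul, ← he', ← he', ← map_mul,
      Algebra.TensorProduct.tmul_mul_tmul, one_mul, he']

omit [FiniteDimensional k K] [IsGalois k K] in
theorem algBaseChange_smul (f : A ≃ₐ[k] A') (σ : K ≃ₐ[k] K) (z : K ⊗[k] A) :
    Algebra.TensorProduct.congr (AlgEquiv.refl : K ≃ₐ[K] K) f (σ • z) =
      σ • Algebra.TensorProduct.congr (AlgEquiv.refl : K ≃ₐ[K] K) f z := by
  induction z using TensorProduct.induction_on with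
  | zero => simp
  | tmul c a => simp [TensorProduct.smul_tmul']
  | add p q hp hq => simp [smul_add, map_add, hp, hq]

end Groth.GaloisBrauer
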