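import Groth.Agent.GaloisBrauer.SiteTrace
import Groth.Agent.EtaleBase.Rigidity
import Groth.Agent.EtaleBase.Stalks
import Groth.Agent.EtaleBase.PushStalkFinite
import Groth.Prelude.Def_EtCore
import Mathlib.RingTheory.Etale.Field
import Mathlib.FieldTheory.Normal.Closure
import Mathlib.FieldTheory.PrimitiveElement
import Mathlib.FieldTheory.Galois.Basic
import Mathlib.FieldTheory.IsSepClosed

/-!
Products in the small étale site of a field with the spectrum of a finite separable extension.
-/

set_option autoImplicit false

universe u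

open CategoryTheory CategoryTheory.Limits AlgebraicGeometry Opposite

namespace Groth.GaloisBrauer.FieldTrace

variable {X Y : Scheme.{u}}

set_option backward.isDefEq.respectTransparency.types false in
/-- Products in a small étale site with an object, via base change and composition. -/
noncomputable def prodWith (f : X ⟶ Y) (hf : EtCoh.etaleMP.{u} f) :
    SiteTrace.ProdWith (C := Y.Etale) (MorphismProperty.Over.mk ⊤ f hf) where
  P := EtCoh.bc f ⋙ MorphismProperty.Over.map ⊤ (f := f) hf
  p := (MorphismProperty.Over.mapPullbackAdj EtCoh.etaleMP.{u} ⊤ f hf trivial).counit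
  q W := MorphismProperty.Over.homMk (pullback.snd W.hom f) rfl
  q_nat {W W'} g := by
    apply MorphismProperty.Over.Hom.ext
    exact pullback.lift_snd _ _ _
  lift {Z W} a b := MorphismProperty.Over.homMk (pullback.lift a.left b.left
      ((MorphismProperty.Over.w a).trans (MorphismProperty.Over.w b).symm))
    ((Category.assoc _ _ _).symm.trans ((congrArg (· ≫ f) (pullback.lift_snd _ _ _)).trans
      (MorphismProperty.Over.w b)))
  lift_p {Z W} a b := by
    apply MorphismProperty.Over.Hom.ext
    exact pullback.lift_fst _ _ _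
  lift_q {Z W} a b := by
    apply MorphismProperty.Over.Hom.ext
    exact pullback.lift_snd _ _ _
  hom_ext {Z W} a b h1 h2 := by
    apply MorphismProperty.Over.Hom.ext
    exact pullback.hom_ext (congrArg (fun k => k.left) h1) (congrArg (fun k => k.left) h2)

variable (K : Type u) [Field K]

/-- The structure morphism of the spectrum of an extension. -/
noncomputable abbrev mor (L : Type u) [Field L] [Algebra K L] :
    Spec (CommRingCat.of L) ⟶ Spec (CommRingCat.of K) :=
  Spec.map (CommRingCat.ofHom (algebraMap K L))

variable (L : Type u) [Field L] [Algebra K L] [FiniteDimensional K L]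

theorem mor_isFinite : IsFinite (mor K L) :=
  (IsFinite.SpecMap_iff _).2 (RingHom.finite_algebraMap.2 inferInstance)

variable [Algebra.IsSeparable K L]

theorem mor_etale : Etale (mor K L) := by
  rw [HasRingHomProperty.Spec_iff (P := @Etale)]
  change RingHom.Etale (algebraMap K L)
  rw [RingHom.etale_algebraMap]
  haveI : Algebra.FormallyEtale K L := Algebra.FormallyEtale.of_isSeparable K L
  exact ⟨inferInstance, Algebra.FinitePresentation.of_finiteType.mp inferInstance⟩

/-- The spectrum of a finite separable extension as an object of the small étale site. -/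
noncomputable abbrev obj : (Spec (CommRingCat.of K)).Etale :=
  MorphismProperty.Over.mk ⊤ (mor K L) (mor_etale K L)

variable {L}
variable {M : Type u} [Field M] [Algebra K M] [FiniteDimensional K M] [Algebra.IsSeparable K M]

/-- Maps of spectra over `K` are algebra maps. -/
noncomputable def homEquiv : (obj K M ⟶ obj K L) ≃ (L →ₐ[K] M) where
  toFun g :=
    { (Spec.preimage g.left).hom with
      commutes' := fun r => by
        have h : CommRingCat.ofHom (algebraMap K L) ≫ Spec.preimage g.left =
            CommRingCat.ofHom (algebraMap K M) := by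
          refine Spec.map_injective ?_
          refine (Spec.map_comp _ _).trans ?_
          refine Eq.trans ?_ (MorphismProperty.Over.w g)
          exact congrArg (· ≫ mor K L) (Spec.map_preimage _)
        exact DFunLike.congr_fun (congrArg CommRingCat.Hom.hom h) r }
  invFun σ := MorphismProperty.Over.homMk (Spec.map (CommRingCat.ofHom σ.toRingHom)) (by
    show Spec.map _ ≫ Spec.map _ = Spec.map _
    rw [← Spec.map_comp, ← CommRingCat.ofHom_comp]; exact congrArg (fun k => Spec.map (CommRingCat.ofHom k)) σ.comp_algebraMap)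
  left_inv g := by
    apply MorphismProperty.Over.Hom.ext
    show Spec.map (CommRingCat.ofHom (Spec.preimage g.left).hom) = g.left
    exact Spec.map_preimage g.left
  right_inv σ := by
    ext x
    show (Spec.preimage (Spec.map (CommRingCat.ofHom σ.toRingHom))).hom x = σ x
    rw [Spec.preimage_map]
    rfl

/-- An extension of `K` embeds in a Galois one. -/
theorem exists_galois (L : Type u) [Field L] [Algebra K L] [FiniteDimensional K L]
    [Algebra.IsSeparable K L] :
    ∃ (M : Type u) (_ : Field M) (_ : Algebra K M), FiniteDimensional K M ∧ IsGalois K M ∧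
      Nonempty (L →ₐ[K] M) := by
  let ι : L →ₐ[K] SeparableClosure K := IsSepClosed.lift
  letI : Algebra L (SeparableClosure K) := ι.toRingHom.toAlgebra
  haveI : IsScalarTower K L (SeparableClosure K) :=
    IsScalarTower.of_algebraMap_eq fun r => (ι.commutes r).symm
  haveI : IsGalois K (SeparableClosure K) := IsSepClosure.isGalois
  let M := IntermediateField.normalClosure K L (SeparableClosure K)
  exact ⟨M, inferInstance, inferInstance, inferInstance, inferInstance,
    ⟨ι.codRestrict M.toSubalgebra fun x => ι.fieldRange_le_normalClosure ⟨x, rfl⟩⟩⟩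

theorem card_hom [IsGalois K M] (ι : L →ₐ[K] M) [Fintype (obj K M ⟶ obj K L)] :
    Fintype.card (obj K M ⟶ obj K L) = Module.finrank K L := by
  rw [Fintype.card_congr (homEquiv K (L := L) (M := M)), AlgHom.card_of_splits K L M fun x => ?_]
  rw [← minpoly.algHom_eq ι ι.toRingHom.injective x]
  exact Normal.splits inferInstance (ι x)

/-- Two points of the Galois object with values in a field differ by an automorphism. -/
theorem exists_auto_point [IsGalois K M] (κ : Type u) [Field κ]
    (a b : Spec (CommRingCat.of κ) ⟶ Spec (CommRingCat.of M)) (h : a ≫ mor K M = b ≫ mor K M) :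
    ∃ τ : obj K M ≅ obj K M, b = a ≫ τ.hom.left := by
  let α := Spec.preimage a
  let β := Spec.preimage b
  have hαβ : CommRingCat.ofHom (algebraMap K M) ≫ α = CommRingCat.ofHom (algebraMap K M) ≫ β :=
    Spec.map_injective (by rw [Spec.map_comp, Spec.map_comp, Spec.map_preimage, Spec.map_preimage]; exact h)
  letI : Algebra M κ := α.hom.toAlgebra
  letI : Algebra K κ := (α.hom.comp (algebraMap K M)).toAlgebra
  haveI : IsScalarTower K M κ := IsScalarTower.of_algebraMap_eq fun _ => rfl
  let φ : M →ₐ[K] κ :=
    { β.hom with commutes' := fun r => (DFunLike.congr_fun (congrArg CommRingCat.Hom.hom hαβ) r).symm }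
  let e : M ≃ₐ[K] M := AlgHom.restrictNormal' φ M
  let τ : obj K M ≅ obj K M :=
    { hom := (homEquiv K (L := M) (M := M)).symm e.toAlgHom
      inv := (homEquiv K (L := M) (M := M)).symm e.symm.toAlgHom
      hom_inv_id := by
        apply MorphismProperty.Over.Hom.ext
        show Spec.map _ ≫ Spec.map _ = 𝟙 _
        rw [← Spec.map_comp, ← Spec.map_id]
        congr 1
        ext x
        exact e.apply_symm_apply x
      inv_hom_id := by
        apply MorphismProperty.Over.Hom.ext
        show Spec.map _ ≫ Spec.map _ = 𝟙 _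
        rw [← Spec.map_comp, ← Spec.map_id]
        congr 1
        ext x
        exact e.symm_apply_apply x }
  refine ⟨τ, ?_⟩
  have h2 : β = CommRingCat.ofHom e.toAlgHom.toRingHom ≫ α := by
    ext x
    exact (AlgHom.restrictNormal_commutes φ M x).symm
  rw [← Spec.map_preimage b, show Spec.preimage b = _ from h2, Spec.map_comp, Spec.map_preimage]
  rfl

set_option backward.isDefEq.respectTransparency.types false in
/-- Two maps to the Galois object differ locally by automorphisms. -/
theorem local_auto [IsGalois K M] (Z : (Spec (CommRingCat.of K)).Etale) (b₁ b₂ : Z ⟶ obj K M) :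
    ∃ S ∈ (Spec (CommRingCat.of K)).smallEtaleTopology Z, ∀ (Z' : (Spec (CommRingCat.of K)).Etale)
      (h : Z' ⟶ Z), S h → ∃ τ : obj K M ≅ obj K M, h ≫ b₂ = h ≫ b₁ ≫ τ.hom := by
  refine ⟨⟨fun Z' h => ∃ τ : obj K M ≅ obj K M, h ≫ b₂ = h ≫ b₁ ≫ τ.hom, ?_⟩, ?_, fun _ _ h => h⟩
  · rintro Z' Z'' h ⟨τ, hτ⟩ g
    exact ⟨τ, by rw [Category.assoc, hτ, Category.assoc]⟩
  rw [Groth.EtaleBase.mem_topology_iff]
  intro z
  haveI : Etale Z.hom := Z.prop
  haveI : LocallyQuasiFinite Z.hom := Groth.EtaleBase.locallyQuasiFinite_of_formallyUnramified Z.hom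
  haveI : DiscreteTopology Z.left :=
    @Groth.EtaleBase.locallyQuasiFinite_discreteTopology _ (Spec (CommRingCat.of K)) Z.hom inferInstance
      (inferInstanceAs (Subsingleton (PrimeSpectrum K)))
  let U : Z.left.Opens := ⟨{z}, isOpen_discrete _⟩
  let V : (Spec (CommRingCat.of K)).Etale :=
    MorphismProperty.Over.mk ⊤ (U.ι ≫ Z.hom) (show Etale (U.ι ≫ Z.hom) from inferInstance)
  let g : V ⟶ Z := MorphismProperty.Over.homMk U.ι rfl
  refine ⟨V, g, ⟨z, rfl⟩, ?_, rfl⟩
  haveI : Subsingleton U.toScheme := ⟨fun a b => Subtype.ext (a.2.trans b.2.symm)⟩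
  haveI : ConnectedSpace U.toScheme :=
    { toPreconnectedSpace := ⟨Set.subsingleton_univ.isPreconnected⟩
      toNonempty := ⟨⟨z, rfl⟩⟩ }
  let w : U.toScheme := ⟨z, rfl⟩
  obtain ⟨τ, hτ⟩ := exists_auto_point K (U.toScheme.residueField w)
    (U.toScheme.fromSpecResidueField w ≫ U.ι ≫ b₁.left) (U.toScheme.fromSpecResidueField w ≫ U.ι ≫ b₂.left)
    (by
      simp only [Category.assoc]
      exact congrArg (fun k => _ ≫ U.ι ≫ k)
        ((MorphismProperty.Over.w b₁).trans (MorphismProperty.Over.w b₂).symm))
  refine ⟨τ, ?_⟩
  apply MorphismProperty.Over.Hom.ext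
  show U.ι ≫ b₂.left = U.ι ≫ b₁.left ≫ τ.hom.left
  haveI := mor_etale K M
  haveI := mor_isFinite K M
  refine Groth.EtaleBase.eq_of_agree_at_point (mor K M) _ _ ?_ w (hτ.trans ?_)
  · refine (Category.assoc _ _ _).trans (Eq.trans ?_ ((congrArg (U.ι ≫ ·) (Category.assoc _ _ _)).symm.trans (Category.assoc _ _ _).symm))
    exact congrArg (U.ι ≫ ·) ((MorphismProperty.Over.w b₂).trans
      ((MorphismProperty.Over.w b₁).symm.trans (congrArg (b₁.left ≫ ·) (MorphismProperty.Over.w τ.hom).symm)))
  · exact (Category.assoc _ _ _).trans (congrArg (_ ≫ ·) (Category.assoc _ _ _))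

end Groth.GaloisBrauer.FieldTrace
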