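import Groth.Agent.GaloisBrauer.FieldGa
import Groth.Agent.S18415
import Mathlib.FieldTheory.Finite.Basic

/-!
Artin–Schreier: over a field of characteristic `p`, `H^q(ℤ/p) = 0` for `q ≥ 2`; and passage of
finitely generated sheaves to an extension.
-/

set_option autoImplicit false
set_option backward.isDefEq.respectTransparency.types false

universe u

open CategoryTheory CategoryTheory.Limits CategoryTheory.Abelian AlgebraicGeometry Opposite

namespace Groth.GaloisBrauer.FieldTrace

section AS

variable (K : Type u) [Field K] (p : ℕ) [hp : Fact p.Prime] [CharP K p]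

theorem natCast_gsec : (p : Γ(Spec (CommRingCat.of K), ⊤)) = 0 := by
  rw [← map_natCast (Scheme.ΓSpecIso (CommRingCat.of K)).inv.hom, show ((p : ℕ) : CommRingCat.of K) = 0 from
    CharP.cast_eq_zero K p, map_zero]

/-- The Artin–Schreier endomorphism. -/
noncomputable abbrev asEndo : EtCoh.Ga (Spec (CommRingCat.of K)) ⟶ EtCoh.Ga (Spec (CommRingCat.of K)) :=
  W4c5etcohweilstudent.artinSchreierEndo _ p hp.out (natCast_gsec K p)

theorem nsmul_eq_up {U : (Spec (CommRingCat.of K)).Etale} (d : ℕ) (x : gsecRing K U) :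
    d • (ULift.up x : ULift.{u + 1} (gsecRing K U)) = ULift.up ((d : gsecRing K U) * x) := by
  rw [← nsmul_eq_mul]; rfl

theorem one_killed : p • (show (EtCoh.Ga (Spec (CommRingCat.of K))).obj.obj (op (EtCoh.top _)) from
    ULift.up (1 : gsecRing K (EtCoh.top _))) = 0 := by
  refine (nsmul_eq_up K p (1 : gsecRing K (EtCoh.top _))).trans ?_
  rw [W4c5etcohweilstudent.natCast_eq_zero_etale p (natCast_gsec K p), zero_mul]
  rfl

theorem subsingleton_zmod (q : ℕ) (hq : 2 ≤ q) :
    Subsingleton (EtCoh.H (Spec (CommRingCat.of K)) (EtCoh.const _ (ZMod p)) q) := by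
  let e : (EtCoh.Ga (Spec (CommRingCat.of K))).obj.obj (op (EtCoh.top _)) :=
    ULift.up (1 : gsecRing K (EtCoh.top _))
  let ψ := zmodMap e (one_killed K p)
  haveI : Mono ψ := mono_zmodMap e (one_killed K p) fun h => by
    haveI : Nontrivial (gsecRing K (EtCoh.top (Spec (CommRingCat.of K)))) :=
      (Scheme.ΓSpecIso (CommRingCat.of K)).hom.hom.domain_nontrivial
    exact one_ne_zero (α := gsecRing K (EtCoh.top _)) (congrArg ULift.down h)
  let φ := asEndo K p
  have hw : ψ ≫ φ = 0 := by
    apply ((EtCore.constAdj (Spec (CommRingCat.of K))).homEquiv _ _).injective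
    rw [Adjunction.homEquiv_naturality_right]
    rw [show ψ = zmodMap e (one_killed K p) from rfl, zmodMap]
    erw [Equiv.apply_symm_apply]
    rw [Adjunction.homEquiv_unit, Functor.map_zero, comp_zero]
    ext ⟨n⟩
    show φ.hom.app _ (zmodHom e (one_killed K p) n) = 0
    obtain ⟨m, rfl⟩ := ZMod.intCast_surjective n
    rw [zmodHom, ZMod.lift_coe]
    show φ.hom.app _ (m • e) = 0
    rw [map_zsmul]
    have h1 : φ.hom.app (op (EtCoh.top _)) e = 0 := by
      refine ULift.ext _ _ ?_
      show (1 : gsecRing K (EtCoh.top _)) ^ p - 1 = 0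
      rw [one_pow, sub_self]
    rw [h1, smul_zero]
  haveI : Epi φ := Groth.Agent.S18415.result p hp.out (natCast_gsec K p)
  haveI : Epi (kernel.lift φ ψ hw) := by
    refine epi_of_points _ fun N _ _ _ _ x => ⟨N, inferInstance, inferInstance, inferInstance,
      inferInstance, 𝟙 _, ?_⟩
    let y : gsecRing K (obj K N) := ((kernel.ι φ).hom.app _ x).down
    have hy : y ^ p - y = 0 := by
      have h := congrArg (fun z : kernel φ ⟶ EtCoh.Ga _ => z.hom.app (op (obj K N)) x) (kernel.condition φ)
      exact congrArg ULift.down h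
    let ι : gsecRing K (obj K N) →+* N := (Scheme.ΓSpecIso (CommRingCat.of N)).hom.hom
    haveI : CharP N p := charP_of_injective_algebraMap (algebraMap K N).injective p
    have hm : ι y ∈ (⊥ : Subfield N) := (Subfield.mem_bot_iff_pow_eq_self N p).2 (by
      have h := congrArg ι hy
      rw [map_sub, map_pow, map_zero] at h
      exact sub_eq_zero.1 h)
    obtain ⟨n, hn⟩ := (mem_bot_iff_intCast p N).1 hm
    refine ⟨constSec _ (n : ZMod p), ?_⟩
    haveI : Mono ((sheafToPresheaf _ _).map (kernel.ι φ)) := inferInstance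
    refine (AddCommGrpCat.mono_iff_injective ((kernel.ι φ).hom.app (op (obj K N)))).1
      ((NatTrans.mono_iff_mono_app _).1 this (op (obj K N))) ?_
    rw [op_id, CategoryTheory.Functor.map_id]
    refine Eq.trans ?_ (show (ULift.up y : ULift.{u + 1} (gsecRing K (obj K N))) = _ from rfl)
    rw [← ConcreteCategory.comp_apply]
    refine (congrArg (fun z : _ ⟶ EtCoh.Ga _ => z.hom.app (op (obj K N)) (constSec _ (n : ZMod p)))
      (kernel.lift_ι φ ψ hw)).trans ?_
    rw [zmodMap_constSec, zmodHom, ZMod.lift_coe]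
    show (EtCoh.Ga _).obj.map _ (n • e) = _
    rw [map_zsmul]
    refine ULift.ext _ _ ?_
    show n • rmap K (toTop (obj K N)) (1 : gsecRing K (EtCoh.top _)) = y
    rw [map_one, zsmul_one]
    apply (Scheme.ΓSpecIso (CommRingCat.of N)).commRingCatIsoToRingEquiv.injective
    show ι (n : gsecRing K (obj K N)) = ι y
    rw [map_intCast, hn]
  haveI : Mono (kernel.lift φ ψ hw ≫ kernel.ι φ) := by rw [kernel.lift_ι]; infer_instance
  haveI : Mono (kernel.lift φ ψ hw) := mono_of_mono _ (kernel.ι φ)
  haveI : IsIso (kernel.lift φ ψ hw) := isIso_of_mono_of_epi _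
  have hS : (ShortComplex.mk (kernel.ι φ) φ (kernel.condition φ)).ShortExact :=
    { exact := ShortComplex.exact_of_f_is_kernel _ (kernelIsKernel φ)
      mono_f := inferInstanceAs (Mono (kernel.ι φ))
      epi_g := ‹_› }
  suffices ∀ x : EtCoh.H (Spec (CommRingCat.of K)) (EtCoh.const _ (ZMod p)) q, x = 0 from
    ⟨fun a b => (this a).trans (this b).symm⟩
  intro x
  obtain ⟨r, rfl⟩ : ∃ r, q = r + 1 := ⟨q - 1, by omega⟩
  have hk : ∀ z : EtCoh.H (Spec (CommRingCat.of K)) (kernel φ) (r + 1), z = 0 := fun z => by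
    obtain ⟨c, hc⟩ := Ext.covariant_sequence_exact₁ _ hS z
      (@Subsingleton.elim _ (subsingleton_H_Ga K (r + 1) (Nat.succ_pos r)) _ _) (n₀ := r) rfl
    rw [← hc, @Subsingleton.elim _ (subsingleton_H_Ga K r (by omega)) c 0, Ext.zero_comp]
  refine (Ext.comp_mk₀_id x).symm.trans ?_
  show Ext.comp x (Ext.mk₀ (𝟙 (EtCoh.const (Spec (CommRingCat.of K)) (ZMod p)))) (add_zero (r + 1)) = 0
  rw [← IsIso.hom_inv_id (kernel.lift φ ψ hw), ← Ext.mk₀_comp_mk₀, ← Ext.comp_assoc_of_third_deg_zero]
  refine (congrArg (fun z => Ext.comp z (Ext.mk₀ (inv (kernel.lift φ ψ hw))) (add_zero (r + 1))) (hk _)).trans ?_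
  apply Ext.zero_comp

end AS

section tower

variable {K : Type u} [Field K] (L : Type u) [Field L] [Algebra K L] [FiniteDimensional K L]
  [Algebra.IsSeparable K L]

/-- Spectra over `L` seen over `K`. -/
noncomputable def compObjIso [Etale (mor K L)] (N : Type u) [Field N] [Algebra K N] [Algebra L N]
    [IsScalarTower K L N] [FiniteDimensional K N] [Algebra.IsSeparable K N] [FiniteDimensional L N]
    [Algebra.IsSeparable L N] :
    (EtShriek.compEtale (mor K L)).obj (obj L N) ≅ obj K N :=
  MorphismProperty.Over.isoMk (Iso.refl _) ((Category.id_comp _).trans (mor_comp K L N).symm)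

/-- Generation at `M` passes to intermediate extensions. -/
theorem Gen.pull (M : Type u) [Field M] [Algebra K M] [Algebra L M] [IsScalarTower K L M]
    [FiniteDimensional K M] [Algebra.IsSeparable K M] [FiniteDimensional L M] [Algebra.IsSeparable L M]
    (C : EtCoh.Ab (Spec (CommRingCat.of K))) (hC : Gen C M) [Finite (C.obj.obj (op (obj K M)))] :
    Gen ((EtCoh.pull (mor K L)).obj C) M ∧
      Finite (((EtCoh.pull (mor K L)).obj C).obj.obj (op (obj L M))) := by
  haveI := mor_etale K L
  haveI := Groth.EtaleBase.InjCoh.jCont (mor K L)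
  let e := (Groth.EtaleBase.pullRestrIso (mor K L)).app C
  have hinj : ∀ U, Function.Injective (e.hom.hom.app (op U)) := fun U a b hab => by
    have hid : e.hom.hom ≫ e.inv.hom = 𝟙 _ := congrArg (fun z => z.hom) e.hom_inv_id
    have key : ∀ c, e.inv.hom.app (op U) (e.hom.hom.app (op U) c) = c := fun c =>
      (ConcreteCategory.comp_apply _ _ c).symm.trans (by rw [← NatTrans.comp_app, hid]; rfl)
    rw [← key a, hab, key b]
  refine ⟨fun N _ _ _ _ a x => ?_, ?_⟩
  · letI : Algebra K N := ((algebraMap L N).comp (algebraMap K L)).toAlgebra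
    haveI : IsScalarTower K L N := IsScalarTower.of_algebraMap_eq fun _ => rfl
    haveI : FiniteDimensional K N := Module.Finite.trans L N
    haveI : Algebra.IsSeparable K N := Algebra.IsSeparable.trans K L N
    let a' : obj K N ⟶ obj K M :=
      (compObjIso L N).inv ≫ (EtShriek.compEtale (mor K L)).map a ≫ (compObjIso L M).hom
    obtain ⟨t, ht⟩ := hC N a' (C.obj.map (compObjIso L N).inv.op (e.hom.hom.app (op (obj L N)) x))
    have hid : e.inv.hom ≫ e.hom.hom = 𝟙 _ := congrArg (fun z => z.hom) e.inv_hom_id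
    refine ⟨e.inv.hom.app _ (C.obj.map (compObjIso L M).hom.op t), hinj _ ?_⟩
    rw [NatTrans.naturality_apply e.hom.hom a.op]
    have key : ∀ c, e.hom.hom.app (op (obj L M)) (e.inv.hom.app (op (obj L M)) c) = c := fun c =>
      (ConcreteCategory.comp_apply _ _ c).symm.trans (by rw [← NatTrans.comp_app, hid]; rfl)
    rw [key]
    show C.obj.map ((EtShriek.compEtale (mor K L)).map a).op (C.obj.map (compObjIso L M).hom.op t) = _
    have h2 := congrArg (C.obj.map (compObjIso L N).hom.op) ht
    simp only [← ConcreteCategory.comp_apply, ← Functor.map_comp, ← op_comp, a', Iso.hom_inv_id,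
      Iso.hom_inv_id_assoc, op_id, CategoryTheory.Functor.map_id] at h2
    rw [← ConcreteCategory.comp_apply, ← Functor.map_comp, ← op_comp, h2]
    rfl
  · refine Finite.of_injective (fun x => C.obj.map (compObjIso L M).inv.op (e.hom.hom.app _ x)) ?_
    intro x y h
    refine hinj _ ?_
    have := congrArg (C.obj.map (compObjIso L M).hom.op) h
    simp only [← ConcreteCategory.comp_apply, ← Functor.map_comp, ← op_comp, Iso.hom_inv_id,
      op_id, CategoryTheory.Functor.map_id] at this
    exact this

end tower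

end Groth.GaloisBrauer.FieldTrace
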