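import Groth.Agent.GaloisBrauer.CdNorm
import Groth.Agent.CSA.CyclicModel
import Groth.Agent.CSA.CyclicMul
import Groth.Agent.S7733

/-!
Trivial Brauer groups of finite extensions: norms are surjective, cohomological dimension at most one.
-/

set_option autoImplicit false
set_option backward.isDefEq.respectTransparency.types false

universe u

open CategoryTheory CategoryTheory.Limits CategoryTheory.Abelian AlgebraicGeometry Opposite

namespace Groth.GaloisBrauer.FieldTrace

theorem exists_norm_eq_of_brauer (K : Type u) [Field K]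
    (hBr : ∀ (D : Type u) [DivisionRing D] [Algebra K D] [Algebra.IsCentral K D] [FiniteDimensional K D],
      Module.finrank K D = 1)
    (L : Type u) [Field L] [Algebra K L] [FiniteDimensional K L] [IsGalois K L]
    (σ : L ≃ₐ[K] L) (hσ : ∀ τ : L ≃ₐ[K] L, τ ∈ Subgroup.zpowers σ) (b : Kˣ) :
    ∃ y : L, Algebra.norm K y = (b : K) := by
  obtain ⟨B, -, ⟨P⟩⟩ := Groth.CSA.exists_cyclic_model σ hσ b (m := Module.finrank K L) rfl
  haveI := P.finite
  haveI := P.isCentral hσ
  haveI := P.isSimpleRing hσ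
  obtain ⟨n, hn, D, _, _, hc, hf, ⟨e⟩⟩ := Groth.CSA.exists_matrix_divisionRing K B
  have hD : Function.Bijective (Algebra.ofId K D) :=
    bijective_algebraMap_of_linearEquiv (LinearEquiv.ofFinrankEq K D (by rw [Module.finrank_self, hBr D]))
  exact (P.sim_self_iff hσ).1 ((Groth.CSA.Sim.of_algEquiv
    (e.trans (AlgEquiv.ofBijective _ hD).symm.mapMatrix)).trans (Groth.CSA.Sim.matrix hn.out K))

/-- Trivial Brauer groups make norms surjective. -/
theorem normSurj_of_brauer (K : Type u) [Field K]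
    (hBr : ∀ (K' : Type u) [Field K'] [Algebra K K'] [FiniteDimensional K K']
      (D : Type u) [DivisionRing D] [Algebra K' D] [Algebra.IsCentral K' D] [FiniteDimensional K' D],
      Module.finrank K' D = 1) (p : ℕ) [hp : Fact p.Prime] : NormSurj K p := by
  intro K' _ _ _ _ L _ _ _ _ hdeg x hx
  haveI : IsCyclic (L ≃ₐ[K'] L) := isCyclic_of_prime_card ((IsGalois.card_aut_eq_finrank K' L).trans hdeg)
  obtain ⟨σ, hσ⟩ := IsCyclic.exists_generator (α := L ≃ₐ[K'] L)
  exact exists_norm_eq_of_brauer K' (fun D => hBr K' D) L σ hσ (Units.mk0 x hx)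

theorem torsion_eq_zero_of_normSurj (K : Type u) [Field K] (h : ∀ (p : ℕ) [Fact p.Prime], NormSurj K p)
    (F : EtCoh.Ab (Spec (CommRingCat.of K))) (hF : EtCoh.IsTorsion F) (q : ℕ) (hq : 2 ≤ q)
    (x : EtCoh.H (Spec (CommRingCat.of K)) F q) : x = 0 := by
  refine eq_zero_of_primes (exists_nsmul_eq_zero K F q (by omega) x) fun p hp y hy => ?_
  haveI : Fact p.Prime := ⟨hp⟩
  by_cases hpK : (p : K) = 0
  · haveI : CharP K p := (CharP.charP_iff_prime_eq_zero hp).2 hpK
    exact Groth.Agent.S7733.result K p F hF q hq y ⟨1, by rw [pow_one]; exact hy⟩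
  · obtain ⟨r, rfl⟩ : ∃ r, q = r + 2 := ⟨q - 2, by omega⟩
    exact cd_le_one_of_normSurj p r K hpK (h p) F hF y ⟨1, by rw [pow_one]; exact hy⟩

theorem mono_powMap_char (K : Type u) [Field K] (p : ℕ) [Fact p.Prime] [CharP K p] :
    Mono (EtCoh.powMap (Spec (CommRingCat.of K)) p) := by
  refine mono_of_points _ fun N _ _ _ _ s hs => ?_
  haveI := mor_etale K N
  haveI := Groth.EtaleBase.InjCoh.jCont (mor K N)
  haveI : CharP N p := charP_of_injective_algebraMap (algebraMap K N).injective p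
  obtain ⟨u, rfl⟩ := unitSec_surjective (K := K) N s
  rw [powMap_app] at hs
  have hup : u ^ p = 1 := unitSec_injective (K := K) N
    (((congrArg gmSec (map_pow _ u p)).trans (gmSec_nsmul K _ p)).trans
      (hs.trans ((congrArg gmSec (map_one _)).trans gmSec_one).symm))
  have hu1 : u = 1 := Units.ext (frobenius_inj N p (by
    rw [frobenius_def, ← Units.val_pow_eq_pow_val, hup, Units.val_one, map_one]))
  rw [hu1]
  exact (congrArg gmSec (map_one _)).trans gmSec_one

theorem Gm_eq_zero_of_normSurj (K : Type u) [Field K] (h : ∀ (p : ℕ) [Fact p.Prime], NormSurj K p)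
    (q : ℕ) (hq : 1 ≤ q) (x : EtCoh.H (Spec (CommRingCat.of K)) (EtCoh.Gm _) q) : x = 0 := by
  rcases hq.eq_or_lt with rfl | hq2
  · exact @Subsingleton.elim _ (subsingleton_H_one_Gm K) _ _
  refine eq_zero_of_primes (exists_nsmul_eq_zero K _ q (by omega) x) fun p hp y hy => ?_
  haveI : Fact p.Prime := ⟨hp⟩
  rcases (show 2 ≤ q by omega).eq_or_lt with rfl | hq3
  · exact eq_zero_of_normSurj p K (h p) y ⟨1, by rw [pow_one]; exact hy⟩
  by_cases hpK : (p : K) = 0
  · haveI : CharP K p := (CharP.charP_iff_prime_eq_zero hp).2 hpK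
    haveI := mono_powMap_char K p
    obtain ⟨r, rfl⟩ : ∃ r, q = r + 1 := ⟨q - 1, by omega⟩
    obtain ⟨c, hc⟩ := Ext.covariant_sequence_exact₁ _
      (Groth.CohFin.cokerSeq_shortExact' (EtCoh.powMap (Spec (CommRingCat.of K)) p)) y
      ((Groth.Misc1.Kummer.comp_mk₀_powMap p y).trans hy) (n₀ := r) rfl
    have hk : p • 𝟙 (cokernel (EtCoh.powMap (Spec (CommRingCat.of K)) p)) = 0 := by
      rw [← cancel_epi (cokernel.π (EtCoh.powMap _ p)), comp_zero]
      refine Eq.trans ?_ (cokernel.condition (EtCoh.powMap (Spec (CommRingCat.of K)) p))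
      rw [Preadditive.comp_nsmul, EtCoh.powMap, Preadditive.nsmul_comp, Category.comp_id, Category.id_comp]
    rw [← hc, Groth.Agent.S7733.result K p _ (isTorsion_of_killed hp.pos hk) r (by omega) c
      ⟨1, by rw [pow_one]; exact nsmul_eq_zero_of_killed hk c⟩, Ext.zero_comp]
  · obtain ⟨r, rfl⟩ : ∃ r, q = r + 2 := ⟨q - 2, by omega⟩
    exact Gm_eq_zero_of_cd K p hpK _ (by omega) (cd_le_one_of_normSurj p r K hpK (h p)) y hy

end Groth.GaloisBrauer.FieldTrace
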