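import Groth.Agent.GaloisBrauer.FieldPoints
import Mathlib.GroupTheory.PGroup
import Mathlib.GroupTheory.Sylow

/-!
Dévissage: over a field, sheaves trivialised by a Galois extension of `p`-power degree are successive
extensions of the constant sheaf `ℤ/p` up to prime-to-`p` torsion.
-/

set_option autoImplicit false

universe u

open CategoryTheory CategoryTheory.Limits AlgebraicGeometry Opposite

namespace Groth.GaloisBrauer.FieldTrace

variable {K : Type u} [Field K]

/-- The map to the terminal object. -/
noncomputable abbrev toTop (V : (Spec (CommRingCat.of K)).Etale) : V ⟶ EtCoh.top (Spec (CommRingCat.of K)) :=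
  (EtCore.topIsTerminal _).from V

section zmod

variable {F : EtCoh.Ab (Spec (CommRingCat.of K))} {p : ℕ}
  (e : F.obj.obj (op (EtCoh.top (Spec (CommRingCat.of K))))) (he : p • e = 0)

/-- The hom `ℤ/p → Γ(F)` given by a `p`-torsion section. -/
noncomputable def zmodHom : ZMod p →+ F.obj.obj (op (EtCoh.top (Spec (CommRingCat.of K)))) :=
  ZMod.lift p ⟨zmultiplesHom _ e, show ((p : ℤ) • e = 0) by rw [natCast_zsmul]; exact he⟩

/-- The map out of the constant sheaf given by a `p`-torsion section. -/
noncomputable def zmodMap : EtCoh.const (Spec (CommRingCat.of K)) (ZMod p) ⟶ F :=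
  ((EtCore.constAdj (Spec (CommRingCat.of K))).homEquiv _ F).symm
    (AddCommGrpCat.ofHom ((zmodHom e he).comp (AddEquiv.ulift (α := ZMod p)).toAddMonoidHom))

/-- Constant sections. -/
noncomputable def constSec (U : (Spec (CommRingCat.of K)).Etale) (n : ZMod p) :
    (EtCoh.const (Spec (CommRingCat.of K)) (ZMod p)).obj.obj (op U) :=
  (toSheafify (Spec (CommRingCat.of K)).smallEtaleTopology
    ((Functor.const _).obj (AddCommGrpCat.of (ULift.{u + 1} (ZMod p))))).app (op U) ⟨n⟩

theorem map_constSec {U V : (Spec (CommRingCat.of K)).Etale} (g : V ⟶ U) (n : ZMod p) :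
    (EtCoh.const (Spec (CommRingCat.of K)) (ZMod p)).obj.map g.op (constSec U n) = constSec V n :=
  (NatTrans.naturality_apply (toSheafify (Spec (CommRingCat.of K)).smallEtaleTopology
    ((Functor.const _).obj (AddCommGrpCat.of (ULift.{u + 1} (ZMod p))))) g.op ⟨n⟩).symm

theorem zmodMap_constSec (U : (Spec (CommRingCat.of K)).Etale) (n : ZMod p) :
    (zmodMap e he).hom.app (op U) (constSec U n) = F.obj.map (toTop U).op (zmodHom e he n) := by
  rw [← map_constSec (toTop U) n, NatTrans.naturality_apply (zmodMap e he).hom (toTop U).op]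
  refine congrArg _ ?_
  have h := ((EtCore.constAdj (Spec (CommRingCat.of K))).homEquiv _ F).apply_symm_apply
    (AddCommGrpCat.ofHom ((zmodHom e he).comp (AddEquiv.ulift (α := ZMod p)).toAddMonoidHom))
  rw [Adjunction.homEquiv_unit] at h
  refine Eq.trans ?_ (ConcreteCategory.congr_hom h ⟨n⟩)
  show _ = (zmodMap e he).hom.app _ ((EtCore.constAdj _).unit.app _ ⟨n⟩)
  refine congrArg _ ?_
  rw [show (EtCore.constAdj (Spec (CommRingCat.of K))).unit.app
      (AddCommGrpCat.of (ULift.{u + 1} (ZMod p))) =
    (toSheafify (Spec (CommRingCat.of K)).smallEtaleTopology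
      ((Functor.const _).obj (AddCommGrpCat.of (ULift.{u + 1} (ZMod p))))).app (op (EtCoh.top _)) from by
    simp [EtCore.constAdj, constantSheafAdj, constantPresheafAdj, sheafificationAdjunction_unit_app] <;> rfl]
  rfl

/-- Locally, sections of the constant sheaf are constant. -/
theorem exists_constSec {N : Type u} [Field N] [Algebra K N] [FiniteDimensional K N] [Algebra.IsSeparable K N]
    (s : (EtCoh.const (Spec (CommRingCat.of K)) (ZMod p)).obj.obj (op (obj K N))) :
    ∃ (N' : Type u) (_ : Field N') (_ : Algebra K N') (_ : FiniteDimensional K N')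
      (_ : Algebra.IsSeparable K N') (b : obj K N' ⟶ obj K N) (n : ZMod p),
      (EtCoh.const (Spec (CommRingCat.of K)) (ZMod p)).obj.map b.op s = constSec _ n := by
  have hmem := Presheaf.imageSieve_mem (Spec (CommRingCat.of K)).smallEtaleTopology
    (toSheafify (Spec (CommRingCat.of K)).smallEtaleTopology
      ((Functor.const _).obj (AddCommGrpCat.of (ULift.{u + 1} (ZMod p))))) s
  rw [Groth.EtaleBase.mem_topology_iff] at hmem
  obtain ⟨V, g, v, ⟨y, hy⟩, -⟩ := hmem (default : PrimeSpectrum N)
  obtain ⟨N', i1, i2, i3, i4, a, z, -⟩ := exists_point_hom K V v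
  refine ⟨N', i1, i2, i3, i4, a ≫ g, y.down, ?_⟩
  rw [op_comp, Functor.map_comp, ConcreteCategory.comp_apply, ← map_constSec a y.down]
  exact congrArg _ hy.symm

theorem mono_zmodMap [Fact p.Prime] (he0 : e ≠ 0) : Mono (zmodMap e he) := by
  refine mono_of_points _ fun N _ _ _ _ s hs => ?_
  obtain ⟨N', _, _, _, _, b, n, hn⟩ := exists_constSec s
  refine map_injective _ b (default : PrimeSpectrum N') ?_
  rw [hn, map_zero]
  have h : zmodHom e he n = 0 := by
    refine map_top_injective F (toTop (obj K N')) (default : PrimeSpectrum N') ?_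
    rw [← zmodMap_constSec, map_zero, ← hn, NatTrans.naturality_apply, hs, map_zero]
  have hn0 : n = 0 := by
    obtain ⟨m, rfl⟩ := ZMod.intCast_surjective n
    rw [zmodHom, ZMod.lift_coe] at h
    have hd : addOrderOf e = p := addOrderOf_eq_prime he he0
    rw [ZMod.intCast_zmod_eq_zero_iff_dvd, ← hd]
    exact addOrderOf_dvd_iff_zsmul_eq_zero.2 h
  rw [hn0]
  exact map_zero _

end zmod

variable {F : EtCoh.Ab (Spec (CommRingCat.of K))}
  {M : Type u} [Field M] [Algebra K M] [FiniteDimensional K M] [Algebra.IsSeparable K M]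

set_option backward.isDefEq.respectTransparency.types false in
/-- Galois invariant sections descend. -/
theorem exists_descend [IsGalois K M] (s : F.obj.obj (op (obj K M)))
    (hs : ∀ τ : obj K M ⟶ obj K M, F.obj.map τ.op s = s) :
    ∃ e, F.obj.map (toTop (obj K M)).op e = s := by
  have hR : Sieve.generate (Presieve.singleton (toTop (obj K M))) ∈
      (Spec (CommRingCat.of K)).smallEtaleTopology (EtCoh.top _) := by
    rw [Groth.EtaleBase.mem_topology_iff]
    intro x
    exact ⟨_, toTop (obj K M), (default : PrimeSpectrum M), Sieve.le_generate _ _ _ (Presieve.singleton_self _),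
      Subsingleton.elim (α := PrimeSpectrum K) _ _⟩
  refine (Presieve.isSheafFor_singleton.1 ((Presieve.isSheafFor_iff_generate _).2 (isSheaf_types F _ hR)) s
    fun {Z} g₁ g₂ _ => ?_).exists
  obtain ⟨S, hS, hτ⟩ := local_auto K Z g₁ g₂
  refine (isSheaf_types F S hS).isSeparatedFor.ext fun Z' h hh => ?_
  obtain ⟨τ, hτ'⟩ := hτ Z' h hh
  show F.obj.map h.op (F.obj.map g₁.op s) = F.obj.map h.op (F.obj.map g₂.op s)
  rw [← ConcreteCategory.comp_apply, ← ConcreteCategory.comp_apply, ← Functor.map_comp, ← Functor.map_comp,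
    ← op_comp, ← op_comp, hτ', ← Category.assoc, op_comp, op_comp, Functor.map_comp, Functor.map_comp,
    ConcreteCategory.comp_apply, ConcreteCategory.comp_apply, hs, op_comp, Functor.map_comp,
    ConcreteCategory.comp_apply]

set_option backward.isDefEq.respectTransparency.types false in
/-- A finite `p`-group of sections at a Galois extension of `p`-power degree has a global element of
order `p`. -/
theorem exists_torsion_global [IsGalois K M] (p : ℕ) [Fact p.Prime] {m : ℕ}
    (hdeg : Module.finrank K M = p ^ m) [Finite (F.obj.obj (op (obj K M)))]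
    (hdvd : p ∣ Nat.card (F.obj.obj (op (obj K M)))) :
    ∃ e : F.obj.obj (op (EtCoh.top (Spec (CommRingCat.of K)))), p • e = 0 ∧ e ≠ 0 := by
  let act : (M ≃ₐ[K] M) → (F.obj.obj (op (obj K M)) →+ F.obj.obj (op (obj K M))) := fun σ =>
    (F.obj.map ((homEquiv K (L := M) (M := M)).symm σ.toAlgHom).op).hom
  have hmap : ∀ σ τ : M ≃ₐ[K] M, (homEquiv K (L := M) (M := M)).symm (σ * τ).toAlgHom =
      (homEquiv K (L := M) (M := M)).symm σ.toAlgHom ≫ (homEquiv K (L := M) (M := M)).symm τ.toAlgHom := by
    intro σ τ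
    apply MorphismProperty.Over.Hom.ext
    show Spec.map _ = Spec.map _ ≫ Spec.map _
    rw [← Spec.map_comp]
    rfl
  have h1 : (homEquiv K (L := M) (M := M)).symm (1 : M ≃ₐ[K] M).toAlgHom = 𝟙 _ := by
    apply MorphismProperty.Over.Hom.ext
    show Spec.map _ = 𝟙 _
    rw [← Spec.map_id]
    rfl
  let T := {s : F.obj.obj (op (obj K M)) // p • s = 0}
  letI : MulAction (M ≃ₐ[K] M) T :=
    { smul := fun σ s => ⟨act σ s.1, by rw [← map_nsmul, s.2, map_zero]⟩
      one_smul := fun s => Subtype.ext (by
        show F.obj.map _ s.1 = s.1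
        rw [h1, op_id, CategoryTheory.Functor.map_id]
        rfl)
      mul_smul := fun σ τ s => Subtype.ext (by
        show F.obj.map _ s.1 = F.obj.map _ (F.obj.map _ s.1)
        rw [hmap, op_comp, Functor.map_comp, ConcreteCategory.comp_apply]) }
  have hG : IsPGroup p (M ≃ₐ[K] M) :=
    IsPGroup.of_card (n := m) (by rw [IsGalois.card_aut_eq_finrank, hdeg])
  obtain ⟨x, hx⟩ := exists_prime_addOrderOf_dvd_card' p hdvd
  have hz : (⟨0, smul_zero p⟩ : T) ∈ MulAction.fixedPoints (M ≃ₐ[K] M) T :=
    fun σ => Subtype.ext (map_zero (act σ))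
  have hT : p ∣ Nat.card T := by
    let S : AddSubgroup (F.obj.obj (op (obj K M))) := (nsmulAddMonoidHom p).ker
    have hx' : x ∈ S := show p • x = 0 by rw [← hx]; exact addOrderOf_nsmul_eq_zero x
    have h := AddSubgroup.addOrderOf_dvd_natCard S hx'
    rw [hx] at h
    exact h
  obtain ⟨t, ht, ht0⟩ := hG.exists_fixed_point_of_prime_dvd_card_of_fixed_point T hT hz
  obtain ⟨e, he⟩ := exists_descend (M := M) t.1 fun τ => by
    obtain ⟨σ, rfl⟩ := (homEquiv K (L := M) (M := M)).symm.surjective τ
    exact congrArg Subtype.val (ht (AlgEquiv.ofBijective σ σ.bijective))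
  refine ⟨e, map_top_injective F (toTop (obj K M)) (default : PrimeSpectrum M) ?_, fun h => ht0 ?_⟩
  · rw [map_nsmul, he, map_zero]; exact t.2
  · exact Subtype.ext (show (0 : F.obj.obj (op (obj K M))) = t.1 by rw [← he, h, map_zero])

end Groth.GaloisBrauer.FieldTrace
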