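import Groth.Agent.GaloisBrauer.FieldTrace
import Mathlib.CategoryTheory.Sites.EpiMono
import Mathlib.RingTheory.Unramified.Field
import Mathlib.AlgebraicGeometry.Morphisms.ClosedImmersion

/-!
Every positive degree class on the spectrum of a field is killed by a finite separable extension;
positive degree cohomology of a field is torsion.
-/

set_option autoImplicit false

universe u

open CategoryTheory CategoryTheory.Limits CategoryTheory.Abelian AlgebraicGeometry Opposite

namespace Groth.GaloisBrauer.FieldTrace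

variable (K : Type u) [Field K]

set_option backward.isDefEq.respectTransparency.types false in
/-- A point of an étale scheme over a field is a finite separable point. -/
theorem exists_point (V : (Spec (CommRingCat.of K)).Etale) (v : V.left) :
    ∃ (L : Type u) (_ : Field L) (_ : Algebra K L) (_ : FiniteDimensional K L) (_ : Algebra.IsSeparable K L)
      (g : Spec (CommRingCat.of L) ⟶ V.left), g ≫ V.hom = mor K L := by
  haveI : Etale V.hom := V.prop
  haveI : LocallyQuasiFinite V.hom := Groth.EtaleBase.locallyQuasiFinite_of_formallyUnramified V.hom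
  haveI : DiscreteTopology V.left :=
    @Groth.EtaleBase.locallyQuasiFinite_discreteTopology _ (Spec (CommRingCat.of K)) V.hom inferInstance
      (inferInstanceAs (Subsingleton (PrimeSpectrum K)))
  let κ := V.left.residueField v
  let g := V.left.fromSpecResidueField v
  haveI : IsClosedImmersion g := IsClosedImmersion.of_isPreimmersion _ (isClosed_discrete _)
  let φ : CommRingCat.of K ⟶ κ := Spec.preimage (g ≫ V.hom)
  have hφ : Spec.map φ = g ≫ V.hom := Spec.map_preimage _
  letI : Algebra K κ := φ.hom.toAlgebra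
  haveI h1 : LocallyOfFiniteType (Spec.map φ) := by rw [hφ]; infer_instance
  haveI : FormallyUnramified g := inferInstance
  haveI : FormallyUnramified V.hom := inferInstance
  haveI h2 : FormallyUnramified (Spec.map φ) := by
    rw [hφ]; exact MorphismProperty.comp_mem @FormallyUnramified g V.hom inferInstance inferInstance
  haveI : Algebra.FiniteType K κ := (HasRingHomProperty.Spec_iff (P := @LocallyOfFiniteType)).1 h1
  haveI : Algebra.FormallyUnramified K κ := (HasRingHomProperty.Spec_iff (P := @FormallyUnramified)).1 h2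
  haveI : FiniteDimensional K κ := finite_of_finite_type_of_isJacobsonRing K κ
  refine ⟨κ, inferInstance, inferInstance, inferInstance,
    (Algebra.FormallyUnramified.iff_isSeparable K κ).1 inferInstance, g, ?_⟩
  exact hφ.symm

set_option backward.isDefEq.respectTransparency.types false in
/-- Maps out of the constant sheaf lift along an epimorphism after a finite separable extension. -/
theorem exists_lift {F G : EtCoh.Ab (Spec (CommRingCat.of K))} (g : F ⟶ G) [Epi g]
    (a : EtCoh.const (Spec (CommRingCat.of K)) ℤ ⟶ G) :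
    ∃ (L : Type u) (_ : Field L) (_ : Algebra K L) (_ : FiniteDimensional K L) (_ : Algebra.IsSeparable K L)
      (b : (EtCoh.pull (mor K L)).obj (EtCoh.const (Spec (CommRingCat.of K)) ℤ) ⟶ (EtCoh.pull (mor K L)).obj F),
      b ≫ (EtCoh.pull (mor K L)).map g = (EtCoh.pull (mor K L)).map a := by
  let ha := (EtCore.constAdj (Spec (CommRingCat.of K))).homEquiv (AddCommGrpCat.of (ULift.{u + 1} ℤ)) G a
  have : Sheaf.IsLocallySurjective g :=
    (Sheaf.isLocallySurjective_iff_epi' (A := AddCommGrpCat.{u + 1}) g).2 inferInstance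
  have hmem := (this : Presheaf.IsLocallySurjective _ g.hom).imageSieve_mem (ha.hom ⟨1⟩)
  rw [Groth.EtaleBase.mem_topology_iff] at hmem
  obtain ⟨V, h, v, hh, -⟩ := hmem (default : PrimeSpectrum K)
  obtain ⟨y, hy⟩ := hh
  obtain ⟨L, _, _, _, _, p, hp⟩ := exists_point K V v
  refine ⟨L, inferInstance, inferInstance, inferInstance, inferInstance, ?_⟩
  haveI := mor_etale K L
  haveI := Groth.EtaleBase.InjCoh.jCont (mor K L)
  let f := mor K L
  let adj := Groth.EtaleBase.restrPushAdj f
  let e := Groth.EtaleBase.pullRestrIso f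
  let P := prodWith f (mor_etale K L)
  let r : P.P.obj (EtCoh.top (Spec (CommRingCat.of K))) ⟶ V :=
    MorphismProperty.Over.homMk (pullback.snd _ f ≫ p)
      ((Category.assoc _ _ _).trans (congrArg (_ ≫ ·) hp))
  have hr : r ≫ h = P.p.app _ := (EtCore.topIsTerminal _).hom_ext _ _
  let b' : EtCoh.const (Spec (CommRingCat.of K)) ℤ ⟶ (EtCoh.push f).obj ((EtShriek.restrAlong f).obj F) :=
    ((EtCore.constAdj (Spec (CommRingCat.of K))).homEquiv _ _).symm
      (AddCommGrpCat.ofHom ((zmultiplesHom _ (F.obj.map r.op y)).comp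
        (AddEquiv.ulift (α := ℤ)).toAddMonoidHom))
  have hb' : b' ≫ (EtCoh.push f).map ((EtShriek.restrAlong f).map g) = a ≫ adj.unit.app G := by
    apply ((EtCore.constAdj (Spec (CommRingCat.of K))).homEquiv _ _).injective
    rw [Adjunction.homEquiv_naturality_right, Equiv.apply_symm_apply, Adjunction.homEquiv_naturality_right]
    ext ⟨n⟩
    show g.hom.app _ (n • F.obj.map r.op y) = G.obj.map (P.p.app _).op (ha.hom ⟨n⟩)
    rw [map_zsmul, NatTrans.naturality_apply, hy, ← ConcreteCategory.comp_apply, ← Functor.map_comp,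
      ← op_comp]
    refine Eq.trans ?_ (congrArg (fun k => G.obj.map k.op (ha.hom ⟨n⟩)) hr)
    rw [← map_zsmul, ← map_zsmul]
    refine congrArg _ (congrArg ha.hom ?_)
    ext
    simp
  refine ⟨e.hom.app _ ≫ (adj.homEquiv _ _).symm b' ≫ e.inv.app _, ?_⟩
  rw [Category.assoc, Category.assoc, ← e.inv.naturality g, ← Category.assoc ((adj.homEquiv _ _).symm b'),
    ← Adjunction.homEquiv_naturality_right_symm, hb',
    show (adj.homEquiv _ _).symm (a ≫ adj.unit.app G) = (EtShriek.restrAlong f).map a by
      rw [Equiv.symm_apply_eq, Adjunction.homEquiv_unit]; exact adj.unit.naturality a,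
    ← Category.assoc, ← e.hom.naturality, Category.assoc, Iso.hom_inv_id_app, Category.comp_id]

set_option backward.isDefEq.respectTransparency.types false in
/-- Every class of positive degree is killed by a finite separable extension. -/
theorem exists_mapExt_eq_zero : ∀ (n : ℕ) (F : EtCoh.Ab (Spec (CommRingCat.of K)))
    (x : Ext (EtCoh.const (Spec (CommRingCat.of K)) ℤ) F (n + 1)),
    ∃ (L : Type u) (_ : Field L) (_ : Algebra K L) (_ : FiniteDimensional K L) (_ : Algebra.IsSeparable K L),
      ∀ [PreservesFiniteLimits (EtCoh.pull (mor K L))],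
        x.mapExactFunctor (EtCoh.pull (mor K L)) = 0 := by
  intro n
  induction n with
  | zero =>
    intro F x
    obtain ⟨a, rfl⟩ := Groth.EtaleBase.ExtAdj.exists_comp_extClass _ F 0 x
    obtain ⟨a, rfl⟩ := (Ext.mk₀_bijective _ _).2 a
    have hS := Groth.CohFin.injSeq_shortExact F
    haveI := hS.epi_g
    obtain ⟨L, _, _, _, _, b, hb⟩ := exists_lift K (Groth.CohFin.injSeq F).g a
    refine ⟨L, inferInstance, inferInstance, inferInstance, inferInstance, fun {_} => ?_⟩
    rw [Groth.EtaleBase.ExtAdj.mapExt_comp_extClass _ hS, Ext.mapExactFunctor_mk₀, ← hb]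
    rw [← Ext.mk₀_comp_mk₀, Ext.comp_assoc_of_second_deg_zero]
    rw [show (Ext.mk₀ ((EtCoh.pull (mor K L)).map (Groth.CohFin.injSeq F).g)).comp
      (hS.map_of_exact (EtCoh.pull (mor K L))).extClass (zero_add 1) = 0 from
      (hS.map_of_exact (EtCoh.pull (mor K L))).comp_extClass, Ext.comp_zero]
    rfl
  | succ n ih =>
    intro F x
    obtain ⟨a, rfl⟩ := Groth.EtaleBase.ExtAdj.exists_comp_extClass _ F (n + 1) x
    obtain ⟨L, _, _, _, _, hL⟩ := ih _ a
    refine ⟨L, inferInstance, inferInstance, inferInstance, inferInstance, fun {_} => ?_⟩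
    rw [Groth.EtaleBase.ExtAdj.mapExt_comp_extClass, hL, Ext.zero_comp]
    rfl

/-- Pullback form. -/
theorem exists_Hpull_eq_zero (F : EtCoh.Ab (Spec (CommRingCat.of K))) (i : ℕ) (hi : 0 < i)
    (x : EtCoh.H (Spec (CommRingCat.of K)) F i) :
    ∃ (L : Type u) (_ : Field L) (_ : Algebra K L) (_ : FiniteDimensional K L) (_ : Algebra.IsSeparable K L)
      (_ : PreservesFiniteLimits (EtCoh.pull (mor K L))),
      EtCore.Hpull (mor K L) F i x = 0 := by
  obtain ⟨n, rfl⟩ : ∃ n, i = n + 1 := ⟨i - 1, by omega⟩
  obtain ⟨L, _, _, _, _, hL⟩ := exists_mapExt_eq_zero K n F x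
  refine ⟨L, inferInstance, inferInstance, inferInstance, inferInstance, inferInstance, ?_⟩
  exact (congrArg (fun z => (Ext.mk₀ (EtCore.pullConst (mor K L) ℤ).inv).comp z (zero_add (n + 1))) hL).trans
    (Ext.comp_zero _ _ _ _ _)

/-- Positive degree cohomology of a field is torsion. -/
theorem isOfFinAddOrder (F : EtCoh.Ab (Spec (CommRingCat.of K))) (i : ℕ) (hi : 0 < i)
    (x : EtCoh.H (Spec (CommRingCat.of K)) F i) : IsOfFinAddOrder x := by
  obtain ⟨L, _, _, _, _, _, hL⟩ := exists_Hpull_eq_zero K F i hi x
  exact isOfFinAddOrder_iff_nsmul_eq_zero.2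
    ⟨Module.finrank K L, Module.finrank_pos, finrank_nsmul_eq_zero K L F i x hL⟩

end Groth.GaloisBrauer.FieldTrace
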