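import Groth.Agent.GaloisBrauer.FieldKill

/-!
Abelian étale sheaves on the spectrum of a field, through their sections at field points.
-/

set_option autoImplicit false

universe u

open CategoryTheory CategoryTheory.Limits AlgebraicGeometry Opposite

namespace Groth.GaloisBrauer.FieldTrace

variable (K : Type u) [Field K]

set_option backward.isDefEq.respectTransparency.types false in
/-- Every point of an étale scheme over `K` is hit by a field point. -/
theorem exists_point_hom (U : (Spec (CommRingCat.of K)).Etale) (u : U.left) :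
    ∃ (N : Type u) (_ : Field N) (_ : Algebra K N) (_ : FiniteDimensional K N) (_ : Algebra.IsSeparable K N)
      (g : obj K N ⟶ U) (z : (obj K N).left), g.left.base z = u := by
  haveI : Etale U.hom := U.prop
  haveI : LocallyQuasiFinite U.hom := Groth.EtaleBase.locallyQuasiFinite_of_formallyUnramified U.hom
  haveI : DiscreteTopology U.left :=
    @Groth.EtaleBase.locallyQuasiFinite_discreteTopology _ (Spec (CommRingCat.of K)) U.hom inferInstance
      (inferInstanceAs (Subsingleton (PrimeSpectrum K)))
  let W : U.left.Opens := ⟨{u}, isOpen_discrete _⟩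
  let V : (Spec (CommRingCat.of K)).Etale :=
    MorphismProperty.Over.mk ⊤ (W.ι ≫ U.hom) (show Etale (W.ι ≫ U.hom) from inferInstance)
  obtain ⟨N, _, _, _, _, g, hg⟩ := exists_point K V ⟨u, rfl⟩
  refine ⟨N, inferInstance, inferInstance, inferInstance, inferInstance,
    MorphismProperty.Over.homMk (g ≫ W.ι) ((Category.assoc _ _ _).trans hg), (default : PrimeSpectrum N), ?_⟩
  exact (g.base (default : PrimeSpectrum N)).2

variable {K}

set_option backward.isDefEq.respectTransparency.types false in
/-- A sieve containing field points through every point covers. -/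
theorem mem_topology_of_points {U : (Spec (CommRingCat.of K)).Etale} (R : Sieve U)
    (h : ∀ (N : Type u) [Field N] [Algebra K N] [FiniteDimensional K N] [Algebra.IsSeparable K N]
      (g : obj K N ⟶ U), ∃ (N' : Type u) (_ : Field N') (_ : Algebra K N') (_ : FiniteDimensional K N')
        (_ : Algebra.IsSeparable K N') (b : obj K N' ⟶ obj K N), R (b ≫ g)) :
    R ∈ (Spec (CommRingCat.of K)).smallEtaleTopology U := by
  rw [Groth.EtaleBase.mem_topology_iff]
  intro u
  obtain ⟨N, _, _, _, _, g, z, hz⟩ := exists_point_hom K U u
  obtain ⟨N', _, _, _, _, b, hb⟩ := h N g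
  refine ⟨_, b ≫ g, (default : PrimeSpectrum N'), hb, ?_⟩
  rw [← hz]
  exact congrArg g.left.base (Subsingleton.elim (α := PrimeSpectrum N) _ _)

variable {F G : EtCoh.Ab (Spec (CommRingCat.of K))}

theorem isSheaf_types (F : EtCoh.Ab (Spec (CommRingCat.of K))) :
    Presieve.IsSheaf (Spec (CommRingCat.of K)).smallEtaleTopology
      (F.obj ⋙ CategoryTheory.forget AddCommGrpCat.{u + 1}) :=
  (isSheaf_iff_isSheaf_of_type _ _).1
    ((sheafCompose _ (CategoryTheory.forget AddCommGrpCat.{u + 1})).obj F).property

/-- Sections are determined at field points. -/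
theorem ext_points (F : EtCoh.Ab (Spec (CommRingCat.of K))) {U : (Spec (CommRingCat.of K)).Etale}
    (s t : F.obj.obj (op U))
    (h : ∀ (N : Type u) [Field N] [Algebra K N] [FiniteDimensional K N] [Algebra.IsSeparable K N]
      (g : obj K N ⟶ U), F.obj.map g.op s = F.obj.map g.op t) : s = t := by
  let R : Sieve U :=
    { arrows := fun V g => F.obj.map g.op s = F.obj.map g.op t
      downward_closed := fun {V W g} hg f => by
        show F.obj.map (f ≫ g).op s = F.obj.map (f ≫ g).op t
        rw [op_comp, Functor.map_comp, ConcreteCategory.comp_apply, ConcreteCategory.comp_apply, hg] }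
  have hR : R ∈ (Spec (CommRingCat.of K)).smallEtaleTopology U := mem_topology_of_points R
    fun N _ _ _ _ g => ⟨N, inferInstance, inferInstance, inferInstance, inferInstance, 𝟙 _, by
      show F.obj.map (𝟙 _ ≫ g).op s = F.obj.map (𝟙 _ ≫ g).op t
      rw [Category.id_comp]; exact h N g⟩
  exact (isSheaf_types F R hR).isSeparatedFor.ext fun V g hg => hg

set_option backward.isDefEq.respectTransparency.types false in
/-- Restriction along a map to a field point from a nonempty object is injective. -/
theorem map_injective (F : EtCoh.Ab (Spec (CommRingCat.of K))) {N : Type u} [Field N] [Algebra K N]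
    [FiniteDimensional K N] [Algebra.IsSeparable K N] {V : (Spec (CommRingCat.of K)).Etale}
    (g : V ⟶ obj K N) (v : V.left) : Function.Injective (F.obj.map g.op) := by
  intro s t hst
  have hR : Sieve.generate (Presieve.singleton g) ∈ (Spec (CommRingCat.of K)).smallEtaleTopology (obj K N) := by
    rw [Groth.EtaleBase.mem_topology_iff]
    intro x
    exact ⟨V, g, v, Sieve.le_generate _ _ _ (Presieve.singleton_self _),
      Subsingleton.elim (α := PrimeSpectrum N) _ _⟩
  refine (isSheaf_types F _ hR).isSeparatedFor.ext fun W f hf => ?_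
  obtain ⟨Y, a, b, ⟨rfl⟩, rfl⟩ := hf
  show F.obj.map (a ≫ g).op s = F.obj.map (a ≫ g).op t
  rw [op_comp, Functor.map_comp, ConcreteCategory.comp_apply, ConcreteCategory.comp_apply, hst]

set_option backward.isDefEq.respectTransparency.types false in
/-- Restriction from the base to a nonempty object is injective. -/
theorem map_top_injective (F : EtCoh.Ab (Spec (CommRingCat.of K))) {V : (Spec (CommRingCat.of K)).Etale}
    (g : V ⟶ EtCoh.top (Spec (CommRingCat.of K))) (v : V.left) : Function.Injective (F.obj.map g.op) := by
  intro s t hst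
  refine ext_points F s t fun N _ _ _ _ a => ?_
  haveI : Etale (mor K N) := mor_etale K N
  let P := prodWith (mor K N) (mor_etale K N)
  obtain ⟨z, -, -⟩ := Scheme.Pullback.exists_preimage_pullback (f := V.hom) (g := mor K N) v
    (default : PrimeSpectrum N) (Subsingleton.elim (α := PrimeSpectrum K) _ _)
  refine map_injective F (P.q V : P.P.obj V ⟶ obj K N) z ?_
  rw [← ConcreteCategory.comp_apply, ← ConcreteCategory.comp_apply, ← Functor.map_comp, ← op_comp,
    show P.q V ≫ a = P.p.app V ≫ g from (EtCore.topIsTerminal _).hom_ext _ _, op_comp, Functor.map_comp,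
    ConcreteCategory.comp_apply, ConcreteCategory.comp_apply, hst]

/-- A map injective at field points is a monomorphism. -/
theorem mono_of_points (φ : F ⟶ G)
    (h : ∀ (N : Type u) [Field N] [Algebra K N] [FiniteDimensional K N] [Algebra.IsSeparable K N]
      (s : F.obj.obj (op (obj K N))), φ.hom.app _ s = 0 → s = 0) : Mono φ := by
  haveI : ∀ U, Mono (φ.hom.app U) := fun U => (AddCommGrpCat.mono_iff_injective _).2
    ((injective_iff_map_eq_zero _).2 fun s hs => ext_points F s 0 fun N _ _ _ _ g => by
      refine (h N _ ?_).trans (map_zero _).symm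
      rw [NatTrans.naturality_apply φ.hom g.op s, hs, map_zero])
  haveI : Mono φ.hom := NatTrans.mono_of_mono_app _
  exact (sheafToPresheaf _ _).mono_of_mono_map this

/-- A map which is surjective at field points up to extension is an epimorphism. -/
theorem epi_of_points (φ : F ⟶ G)
    (h : ∀ (N : Type u) [Field N] [Algebra K N] [FiniteDimensional K N] [Algebra.IsSeparable K N]
      (x : G.obj.obj (op (obj K N))), ∃ (N' : Type u) (_ : Field N') (_ : Algebra K N')
        (_ : FiniteDimensional K N') (_ : Algebra.IsSeparable K N') (b : obj K N' ⟶ obj K N)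
        (y : F.obj.obj (op (obj K N'))), φ.hom.app _ y = G.obj.map b.op x) : Epi φ := by
  have : Sheaf.IsLocallySurjective φ := ⟨fun {U} s => mem_topology_of_points _ fun N _ _ _ _ g => by
    obtain ⟨N', i1, i2, i3, i4, b, y, hy⟩ := h N (G.obj.map g.op s)
    refine ⟨N', i1, i2, i3, i4, b, y, hy.trans ?_⟩
    rw [op_comp, Functor.map_comp]
    exact (ConcreteCategory.comp_apply _ _ _).symm⟩
  exact (Sheaf.isLocallySurjective_iff_epi' (A := AddCommGrpCat.{u + 1}) φ).1 this

/-- Locally, elements of the target of an epimorphism lift at field points. -/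
theorem exists_lift_point (φ : F ⟶ G) [Epi φ] {N : Type u} [Field N] [Algebra K N] [FiniteDimensional K N]
    [Algebra.IsSeparable K N] (x : G.obj.obj (op (obj K N))) :
    ∃ (N' : Type u) (_ : Field N') (_ : Algebra K N') (_ : FiniteDimensional K N')
      (_ : Algebra.IsSeparable K N') (b : obj K N' ⟶ obj K N) (y : F.obj.obj (op (obj K N'))),
      φ.hom.app _ y = G.obj.map b.op x := by
  have : Sheaf.IsLocallySurjective φ :=
    (Sheaf.isLocallySurjective_iff_epi' (A := AddCommGrpCat.{u + 1}) φ).2 inferInstance
  have hmem := (this : Presheaf.IsLocallySurjective _ φ.hom).imageSieve_mem x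
  rw [Groth.EtaleBase.mem_topology_iff] at hmem
  obtain ⟨V, g, v, ⟨y, hy⟩, -⟩ := hmem (default : PrimeSpectrum N)
  obtain ⟨N', i1, i2, i3, i4, a, z, -⟩ := exists_point_hom K V v
  refine ⟨N', i1, i2, i3, i4, a ≫ g, F.obj.map a.op y, ?_⟩
  rw [NatTrans.naturality_apply φ.hom a.op y, hy, op_comp, Functor.map_comp, ConcreteCategory.comp_apply]

/-- The sections of `F` are those at `M`: restriction to any field over `M` is surjective. -/
def Gen (F : EtCoh.Ab (Spec (CommRingCat.of K))) (M : Type u) [Field M] [Algebra K M]
    [FiniteDimensional K M] [Algebra.IsSeparable K M] : Prop :=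
  ∀ (N : Type u) [Field N] [Algebra K N] [FiniteDimensional K N] [Algebra.IsSeparable K N]
    (a : obj K N ⟶ obj K M), Function.Surjective (F.obj.map a.op)

variable {M : Type u} [Field M] [Algebra K M] [FiniteDimensional K M] [Algebra.IsSeparable K M]

/-- Quotients of sheaves generated at `M`. -/
theorem Gen.of_epi (hF : Gen F M) (φ : F ⟶ G) [Epi φ] : Gen G M := by
  intro N _ _ _ _ a x
  obtain ⟨N', _, _, _, _, b, y, hy⟩ := exists_lift_point φ x
  obtain ⟨t, rfl⟩ := hF N' (b ≫ a) y
  refine ⟨φ.hom.app _ t, map_injective G b (default : PrimeSpectrum N') ?_⟩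
  rw [← hy, NatTrans.naturality_apply φ.hom (b ≫ a).op t, op_comp, Functor.map_comp,
    ConcreteCategory.comp_apply]

/-- An epimorphism is surjective at `M`. -/
theorem Gen.surjective_app (hF : Gen F M) (φ : F ⟶ G) [Epi φ] :
    Function.Surjective (φ.hom.app (op (obj K M))) := by
  intro x
  obtain ⟨N', _, _, _, _, b, y, hy⟩ := exists_lift_point φ x
  obtain ⟨t, rfl⟩ := hF N' b y
  refine ⟨t, map_injective G b (default : PrimeSpectrum N') ?_⟩
  rw [← hy, NatTrans.naturality_apply φ.hom b.op t]

end Groth.GaloisBrauer.FieldTrace
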