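import Groth.Agent.GaloisBrauer.NormCoh
import Mathlib.FieldTheory.Galois.Basic
import Mathlib.GroupTheory.Perm.Cycle.Type

/-!
If all norms of cyclic extensions of degree `p` are surjective, `H²(k, 𝔾ₘ)` has no `p`-torsion.
-/

set_option autoImplicit false
set_option backward.isDefEq.respectTransparency.types false

universe u

open CategoryTheory CategoryTheory.Limits CategoryTheory.Abelian AlgebraicGeometry Opposite

namespace Groth.GaloisBrauer.FieldTrace

/-- A positive degree class over a field is torsion. -/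
theorem exists_nsmul_eq_zero (K : Type u) [Field K] (F : EtCoh.Ab (Spec (CommRingCat.of K))) (q : ℕ) (hq : 0 < q)
    (x : EtCoh.H (Spec (CommRingCat.of K)) F q) : ∃ d : ℕ, 0 < d ∧ d • x = 0 := by
  obtain ⟨L, _, _, _, _, _, hL⟩ := exists_Hpull_eq_zero K F q hq x
  exact ⟨_, Module.finrank_pos, finrank_nsmul_eq_zero K L F q x hL⟩

theorem eq_zero_of_primes {A : Type*} [AddCommGroup A] {x : A} (hd : ∃ d : ℕ, 0 < d ∧ d • x = 0)
    (h : ∀ p : ℕ, p.Prime → ∀ y : A, p • y = 0 → y = 0) : x = 0 := by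
  by_contra hx
  obtain ⟨d, hd0, hd⟩ := hd
  have hn : addOrderOf x ≠ 1 := fun h1 => hx (AddMonoid.addOrderOf_eq_one_iff.1 h1)
  obtain ⟨p, hp, hpd⟩ := Nat.exists_prime_and_dvd hn
  obtain ⟨m, hm⟩ := hpd
  have hpos : 0 < addOrderOf x := Nat.pos_of_dvd_of_pos (addOrderOf_dvd_of_nsmul_eq_zero hd) hd0
  have hy : m • x = 0 := h p hp _ (by rw [← mul_nsmul', ← hm]; exact addOrderOf_nsmul_eq_zero x)
  have := Nat.le_of_dvd (Nat.pos_of_ne_zero fun h0 => by rw [h0, mul_zero] at hm; omega)
    (addOrderOf_dvd_of_nsmul_eq_zero hy)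
  nlinarith [hp.two_le]

theorem eq_zero_of_coprime {A : Type*} [AddCommGroup A] {x : A} {a b : ℕ} (ha : a • x = 0) (hb : b • x = 0)
    (h : a.Coprime b) : x = 0 :=
  AddMonoid.addOrderOf_eq_one_iff.1 (Nat.eq_one_of_dvd_coprimes h
    (addOrderOf_dvd_of_nsmul_eq_zero ha) (addOrderOf_dvd_of_nsmul_eq_zero hb))

theorem eq_zero_of_pow {A : Type*} [AddCommGroup A] {p : ℕ} (h : ∀ y : A, p • y = 0 → y = 0) :
    ∀ (m : ℕ) (x : A), p ^ m • x = 0 → x = 0
  | 0, x, hx => by simpa using hx
  | m + 1, x, hx => h x (eq_zero_of_pow h m _ (by rw [← mul_nsmul', ← pow_succ]; exact hx))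

section

variable (K : Type u) [Field K] (L : Type u) [Field L] [Algebra K L] [FiniteDimensional K L]
  [Algebra.IsSeparable K L]

/-- `𝔾ₘ` pulls back to `𝔾ₘ`. -/
noncomputable def pullGmIso [Etale (mor K L)] [EtShriek.JCont (mor K L)] :
    (EtCoh.pull (mor K L)).obj (EtCoh.Gm (Spec (CommRingCat.of K))) ≅ EtCoh.Gm (Spec (CommRingCat.of L)) :=
  (Groth.EtaleBase.pullRestrIso (mor K L)).app _ ≪≫ restrGmIso L

/-- A class of `𝔾ₘ` over an extension deciding the vanishing of the pullback in every tower. -/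
theorem exists_pull_Gm {i : ℕ} (x : EtCoh.H (Spec (CommRingCat.of K)) (EtCoh.Gm _) i) :
    ∃ y : EtCoh.H (Spec (CommRingCat.of L)) (EtCoh.Gm _) i,
      (∀ d : ℕ, d • x = 0 → d • y = 0) ∧ (y = 0 → EtCore.Hpull (mor K L) _ i x = 0) ∧
      ∀ (M : Type u) [Field M] [Algebra K M] [Algebra L M] [IsScalarTower K L M],
        EtCore.Hpull (mor K M) _ i x = 0 → EtCore.Hpull (mor L M) _ i y = 0 := by
  haveI := mor_etale K L
  haveI := Groth.EtaleBase.InjCoh.jCont (mor K L)
  let e := pullGmIso K L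
  refine ⟨Ext.comp (EtCore.Hpull (mor K L) _ i x) (Ext.mk₀ e.hom) (add_zero i), fun d hd => ?_, fun h => ?_,
    fun M _ _ _ _ h => ?_⟩
  · have h1 : d • EtCore.Hpull (mor K L) _ i x = 0 := by rw [← map_nsmul, hd, map_zero]
    refine ((map_nsmul ((Ext.mk₀ e.hom).postcomp _ (add_zero i)) d _).symm.trans ?_)
    rw [h1, map_zero]
  · have := congrArg (fun z => Ext.comp z (Ext.mk₀ e.inv) (add_zero i)) h
    simpa only [Ext.comp_assoc_of_third_deg_zero, Ext.mk₀_comp_mk₀, Iso.hom_inv_id, Ext.comp_mk₀_id,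
      Ext.zero_comp] using this
  · refine (Hpull_eq_zero_iff _ _).2 ?_
    rw [Ext.mapExactFunctor_comp, Ext.mapExactFunctor_mk₀,
      (Hpull_eq_zero_iff _ _).1 ((Hpull_tower K L M x).2 h), Ext.zero_comp]

end

/-- Surjectivity of norms in cyclic degree `p` extensions over finite separable extensions. -/
def NormSurj (k : Type u) [Field k] (p : ℕ) : Prop :=
  ∀ (K : Type u) [Field K] [Algebra k K] [FiniteDimensional k K] [Algebra.IsSeparable k K]
    (L : Type u) [Field L] [Algebra K L] [FiniteDimensional K L] [IsGalois K L],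
    Module.finrank K L = p → ∀ x : K, x ≠ 0 → ∃ y : L, Algebra.norm K y = x

theorem NormSurj.of_algebra {k : Type u} [Field k] {p : ℕ} (h : NormSurj k p) (K : Type u) [Field K] [Algebra k K]
    [FiniteDimensional k K] [Algebra.IsSeparable k K] : NormSurj K p := by
  intro K' _ _ _ _ L _ _ _ _ hdeg x hx
  letI : Algebra k K' := ((algebraMap K K').comp (algebraMap k K)).toAlgebra
  haveI : IsScalarTower k K K' := IsScalarTower.of_algebraMap_eq fun _ => rfl
  haveI : FiniteDimensional k K' := FiniteDimensional.trans k K K'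
  haveI : Algebra.IsSeparable k K' := Algebra.IsSeparable.trans k K K'
  exact h K' L hdeg x hx

/-- Norm surjectivity in prime degree as injectivity. -/
theorem eq_zero_of_cyclic (p : ℕ) [hp : Fact p.Prime] (K M : Type u) [Field K] [Field M] [Algebra K M]
    [FiniteDimensional K M] [IsGalois K M] (hdeg : Module.finrank K M = p)
    (h : ∀ x : K, x ≠ 0 → ∃ y : M, Algebra.norm K y = x)
    (x : EtCoh.H (Spec (CommRingCat.of K)) (EtCoh.Gm _) 2) (hx : EtCore.Hpull (mor K M) _ 2 x = 0) : x = 0 := by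
  haveI := mor_etale K M
  haveI := Groth.EtaleBase.InjCoh.jCont (mor K M)
  have hc : Nat.card (M ≃ₐ[K] M) = p := (IsGalois.card_aut_eq_finrank K M).trans hdeg
  haveI : IsCyclic (M ≃ₐ[K] M) := isCyclic_of_prime_card hc
  obtain ⟨σ, hσ⟩ := IsCyclic.exists_generator (α := M ≃ₐ[K] M)
  exact (norm_surjective_iff M hσ).1 h x hx

theorem eq_zero_of_pGroup (p : ℕ) [hp : Fact p.Prime] : ∀ (n : ℕ) (K : Type u) [Field K], NormSurj K p →
    ∀ (M : Type u) [Field M] [Algebra K M] [FiniteDimensional K M] [IsGalois K M],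
      Module.finrank K M = p ^ n → ∀ x : EtCoh.H (Spec (CommRingCat.of K)) (EtCoh.Gm _) 2,
        EtCore.Hpull (mor K M) _ 2 x = 0 → x = 0 := by
  intro n
  induction n with
  | zero =>
    intro K _ _ M _ _ _ _ hdeg x hx
    have := finrank_nsmul_eq_zero K M _ 2 x hx
    rwa [hdeg, pow_zero, one_nsmul] at this
  | succ n ih =>
    intro K _ hK M _ _ _ _ hdeg x hx
    have hcard : Nat.card (M ≃ₐ[K] M) = p ^ (n + 1) := (IsGalois.card_aut_eq_finrank K M).trans hdeg
    obtain ⟨H, hH⟩ := Sylow.exists_subgroup_card_pow_prime p (n := n)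
      (by rw [hcard]; exact pow_dvd_pow p n.le_succ)
    have hindex : H.index = p := by
      have h := H.card_mul_index
      rw [hH, hcard, pow_succ] at h
      exact Nat.eq_of_mul_eq_mul_left (pow_pos hp.out.pos n) h
    haveI : H.Normal := Subgroup.normal_of_index_eq_minFac_card (by
      rw [hindex, hcard, Nat.pow_minFac (Nat.succ_ne_zero n), hp.out.minFac_eq])
    let E := IntermediateField.fixedField H
    haveI : IsGalois K E := IsGalois.of_fixedField_normal_subgroup H
    have hKE : Module.finrank K E = p := by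
      rw [IntermediateField.finrank_eq_fixingSubgroup_index, IntermediateField.fixingSubgroup_fixedField, hindex]
    have hEM : Module.finrank E M = p ^ n := by
      rw [IntermediateField.finrank_fixedField_eq_card, hH]
    obtain ⟨y, -, hy0, hyM⟩ := exists_pull_Gm K E x
    exact eq_zero_of_cyclic p K E hKE (hK K E hKE) x
      (hy0 (ih E (hK.of_algebra E) M hEM y (hyM M hx)))

/-- Surjective norms kill the `p`-primary part of `H²(k, 𝔾ₘ)`. -/
theorem eq_zero_of_normSurj (p : ℕ) [hp : Fact p.Prime] (k : Type u) [Field k] (h : NormSurj k p)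
    (x : EtCoh.H (Spec (CommRingCat.of k)) (EtCoh.Gm _) 2) (hx : ∃ m : ℕ, p ^ m • x = 0) : x = 0 := by
  obtain ⟨a, ha⟩ := hx
  obtain ⟨L₀, _, _, _, _, _, hL₀⟩ := exists_Hpull_eq_zero k _ 2 two_pos x
  obtain ⟨M, _, _, _, _, ⟨ι⟩⟩ := exists_galois k L₀
  letI : Algebra L₀ M := ι.toRingHom.toAlgebra
  haveI : IsScalarTower k L₀ M := IsScalarTower.of_algebraMap_eq fun r => (ι.commutes r).symm
  have hM : EtCore.Hpull (mor k M) _ 2 x = 0 :=
    (Hpull_tower k L₀ M x).1 ((congrArg (fun z => EtCore.Hpull (mor L₀ M) _ 2 z) hL₀).trans (map_zero _))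
  obtain ⟨P⟩ := (Sylow.nonempty : Nonempty (Sylow p (M ≃ₐ[k] M)))
  let L := IntermediateField.fixedField (P : Subgroup (M ≃ₐ[k] M))
  have hdeg : ¬ p ∣ Module.finrank k L := by
    rw [IntermediateField.finrank_eq_fixingSubgroup_index, IntermediateField.fixingSubgroup_fixedField]
    exact P.not_dvd_index
  obtain ⟨m, hm⟩ := P.2.exists_card_eq
  have hLM : Module.finrank L M = p ^ m := by rw [IntermediateField.finrank_fixedField_eq_card, hm]
  obtain ⟨y, -, hy0, hyM⟩ := exists_pull_Gm k L x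
  exact eq_zero_of_coprime (finrank_nsmul_eq_zero k L _ 2 x
      (hy0 (eq_zero_of_pGroup p m L (h.of_algebra L) M hLM y (hyM M hM)))) ha
    (Nat.Coprime.pow_right a (Nat.Coprime.symm ((Nat.Prime.coprime_iff_not_dvd hp.out).2 hdeg)))

end Groth.GaloisBrauer.FieldTrace
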