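import Groth.Agent.GaloisBrauer.FieldTorsion
import Groth.Agent.EtaleBase.RpushExact
import Mathlib.Algebra.Category.Grp.Abelian

/-!
Dimension shifting over a field by finite separable extensions.
-/

set_option autoImplicit false

universe u

open CategoryTheory CategoryTheory.Limits CategoryTheory.Abelian AlgebraicGeometry Opposite

namespace Groth.GaloisBrauer.FieldTrace

variable {K : Type u} [Field K]

theorem isTorsion_of_killed {F : EtCoh.Ab (Spec (CommRingCat.of K))} {d : ℕ} (hd : 0 < d)
    (h : d • 𝟙 F = 0) : EtCoh.IsTorsion F := fun U s x =>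
  ⟨U, 𝟙 U, ⟨x, rfl⟩, isOfFinAddOrder_iff_nsmul_eq_zero.2 ⟨d, hd, by
    rw [← nsmul_id_app, h]; rfl⟩⟩

theorem nsmul_eq_zero_of_killed {F : EtCoh.Ab (Spec (CommRingCat.of K))} {d q : ℕ} (h : d • 𝟙 F = 0)
    (x : EtCoh.H (Spec (CommRingCat.of K)) F q) : d • x = 0 := by
  rw [← comp_nsmul_id, h, Ext.mk₀_zero, Ext.comp_zero]

theorem const_killed (p : ℕ) : p • 𝟙 (EtCoh.const (Spec (CommRingCat.of K)) (ZMod p)) = 0 := by
  let Fc := constantSheaf (Spec (CommRingCat.of K)).smallEtaleTopology AddCommGrpCat.{u + 1}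
  haveI : PreservesColimitsOfSize.{0, 0} Fc :=
    (EtCore.constAdj (Spec (CommRingCat.of K))).leftAdjoint_preservesColimits
  haveI : PreservesFiniteCoproducts Fc := PreservesFiniteCoproducts.mk fun _ => inferInstance
  haveI := preservesBinaryBiproducts_of_preservesBinaryCoproducts Fc
  haveI : Fc.Additive := Functor.additive_of_preservesBinaryBiproducts _
  have h0 : p • 𝟙 (AddCommGrpCat.of (ULift.{u + 1} (ZMod p))) = 0 := by
    ext ⟨a⟩
    have e : ∀ d : ℕ, ((d • 𝟙 (AddCommGrpCat.of (ULift.{u + 1} (ZMod p))) : _ ⟶ _) ⟨a⟩).down = d • a := by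
      intro d
      induction d with
      | zero => simp [zero_nsmul]
      | succ d ih => rw [succ_nsmul, succ_nsmul, ← ih]; rfl
    exact (e p).trans (by simp [nsmul_eq_mul])
  have := congrArg Fc.map h0
  rwa [Functor.map_nsmul, CategoryTheory.Functor.map_id, Functor.map_zero] at this

set_option backward.isDefEq.respectTransparency.types false in
/-- The unit to the direct image from a finite separable extension is a monomorphism. -/
theorem mono_unit (L : Type u) [Field L] [Algebra K L] [FiniteDimensional K L] [Algebra.IsSeparable K L]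
    (F : EtCoh.Ab (Spec (CommRingCat.of K))) : Mono ((EtCoh.pullPushAdj (mor K L)).unit.app F) := by
  haveI := mor_etale K L
  haveI := Groth.EtaleBase.InjCoh.jCont (mor K L)
  haveI : Mono ((Groth.EtaleBase.restrPushAdj (mor K L)).unit.app F) := by
    refine mono_of_points _ fun N _ _ _ _ s hs => ?_
    let P := prodWith (mor K L) (mor_etale K L)
    obtain ⟨z, -, -⟩ := Scheme.Pullback.exists_preimage_pullback (f := mor K N) (g := mor K L)
      (default : PrimeSpectrum N) (default : PrimeSpectrum L) (Subsingleton.elim (α := PrimeSpectrum K) _ _)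
    refine map_injective F (P.p.app (obj K N)) z ?_
    rw [map_zero]
    exact hs
  have h : (EtCoh.pullPushAdj (mor K L)).unit.app F ≫
      (EtCoh.push (mor K L)).map ((Groth.EtaleBase.pullRestrIso (mor K L)).hom.app F) =
      (Groth.EtaleBase.restrPushAdj (mor K L)).unit.app F :=
    Adjunction.unit_leftAdjointUniq_hom_app _ _ F
  haveI : Mono ((EtCoh.pullPushAdj (mor K L)).unit.app F ≫
      (EtCoh.push (mor K L)).map ((Groth.EtaleBase.pullRestrIso (mor K L)).hom.app F)) := h ▸ ‹_›
  exact mono_of_mono _ ((EtCoh.push (mor K L)).map ((Groth.EtaleBase.pullRestrIso (mor K L)).hom.app F))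

/-- A class killed by a finite extension dies in the direct image. -/
theorem comp_unit_eq_zero (L : Type u) [Field L] [Algebra K L] [FiniteDimensional K L] [Algebra.IsSeparable K L]
    {A F : EtCoh.Ab (Spec (CommRingCat.of K))} {q : ℕ} (x : Ext A F q)
    (hx : x.mapExactFunctor (EtCoh.pull (mor K L)) = 0) :
    x.comp (Ext.mk₀ ((EtCoh.pullPushAdj (mor K L)).unit.app F)) (add_zero q) = 0 := by
  haveI := (push_exact K L).1
  haveI := (push_exact K L).2
  refine (Groth.EtaleBase.ExtAdj.adjExt_bijective_of_exact (EtCoh.pullPushAdj (mor K L)) A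
    ((EtCoh.pull (mor K L)).obj F) q).1 (Eq.trans ?_ (map_zero _).symm)
  show ((x.comp _ _).mapExactFunctor (EtCoh.pull (mor K L))).comp
    (Ext.mk₀ ((EtCoh.pullPushAdj (mor K L)).counit.app _)) (add_zero q) = 0
  rw [Ext.mapExactFunctor_comp, hx, Ext.zero_comp, Ext.zero_comp]

/-- Vanishing of `p`-primary classes propagates one degree up for `ℤ/p`. -/
theorem subsingleton_succ (p : ℕ) [Fact p.Prime] (q : ℕ)
    (h : ∀ (F : EtCoh.Ab (Spec (CommRingCat.of K))), EtCoh.IsTorsion F →
      ∀ x : EtCoh.H (Spec (CommRingCat.of K)) F q, (∃ m : ℕ, p ^ m • x = 0) → x = 0) :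
    Subsingleton (EtCoh.H (Spec (CommRingCat.of K)) (EtCoh.const _ (ZMod p)) (q + 1)) := by
  suffices ∀ x : EtCoh.H (Spec (CommRingCat.of K)) (EtCoh.const _ (ZMod p)) (q + 1), x = 0 from
    ⟨fun a b => (this a).trans (this b).symm⟩
  intro x
  obtain ⟨L, _, _, _, _, _, hL⟩ := exists_Hpull_eq_zero K _ (q + 1) (Nat.succ_pos q) x
  haveI := mono_unit L (EtCoh.const (Spec (CommRingCat.of K)) (ZMod p))
  haveI := (push_exact K L).1
  let η := (EtCoh.pullPushAdj (mor K L)).unit.app (EtCoh.const (Spec (CommRingCat.of K)) (ZMod p))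
  have hS := Groth.CohFin.cokerSeq_shortExact' η
  obtain ⟨c, hc⟩ := Ext.covariant_sequence_exact₁ _ hS x
    (comp_unit_eq_zero L x ((Hpull_eq_zero_iff _ x).1 hL)) (n₀ := q) rfl
  have hp : p • 𝟙 (cokernel η) = 0 := by
    rw [← cancel_epi (cokernel.π η), comp_zero, Preadditive.comp_nsmul, Category.comp_id]
    have : p • 𝟙 ((EtCoh.push (mor K L)).obj
        ((EtCoh.pull (mor K L)).obj (EtCoh.const (Spec (CommRingCat.of K)) (ZMod p)))) = 0 := by
      rw [← CategoryTheory.Functor.map_id, ← Functor.map_nsmul, ← CategoryTheory.Functor.map_id,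
        ← Functor.map_nsmul, const_killed, Functor.map_zero, Functor.map_zero]
    calc p • cokernel.π η = (p • 𝟙 _) ≫ cokernel.π η := ((Preadditive.nsmul_comp _ _ _).trans (congrArg (p • ·) (Category.id_comp _))).symm
      _ = 0 := (congrArg (· ≫ cokernel.π η) this).trans zero_comp
  rw [← hc, h _ (isTorsion_of_killed (Fact.out : p.Prime).pos hp) c
    ⟨1, by rw [pow_one]; exact nsmul_eq_zero_of_killed hp c⟩, Ext.zero_comp]

end Groth.GaloisBrauer.FieldTrace
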