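import Groth.Agent.GaloisBrauer.FieldShift
import Groth.Prelude.Def_EtGm
import Mathlib.RingTheory.Trace.Basic

/-!
The additive group has no higher cohomology over a field: it is a direct summand of its direct image
from any Galois extension, by an element of trace one.
-/

set_option autoImplicit false
set_option backward.isDefEq.respectTransparency.types false

universe u

open CategoryTheory CategoryTheory.Limits CategoryTheory.Abelian AlgebraicGeometry Opposite

namespace Groth.GaloisBrauer.FieldTrace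

variable (K : Type u) [Field K]

/-- Global functions on an étale scheme. -/
noncomputable abbrev gsecRing (U : (Spec (CommRingCat.of K)).Etale) : CommRingCat.{u} := Γ(U.left, ⊤)

/-- Restriction of functions. -/
noncomputable abbrev rmap {U V : (Spec (CommRingCat.of K)).Etale} (g : V ⟶ U) :
    gsecRing K U →+* gsecRing K V := g.left.appTop.hom

theorem rmap_comp {U V W : (Spec (CommRingCat.of K)).Etale} (g : V ⟶ U) (h : W ⟶ V) (x : gsecRing K U) :
    rmap K h (rmap K g x) = rmap K (h ≫ g) x :=
  (ConcreteCategory.congr_hom (Scheme.Hom.comp_appTop h.left g.left) x).symm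

theorem Ga_map {U V : (Spec (CommRingCat.of K)).Etale} (g : V ⟶ U) (x : gsecRing K U) :
    (EtCoh.Ga (Spec (CommRingCat.of K))).obj.map g.op (ULift.up x) = ULift.up (rmap K g x) := rfl

variable (M : Type u) [Field M] [Algebra K M] [FiniteDimensional K M] [IsGalois K M]

/-- Field elements as functions. -/
noncomputable def fn : M →+* gsecRing K (obj K M) := (Scheme.ΓSpecIso (CommRingCat.of M)).inv.hom

theorem rmap_fn (σ : M →ₐ[K] M) (c : M) :
    rmap K ((homEquiv K (L := M) (M := M)).symm σ) (fn K M c) = fn K M (σ c) :=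
  (ConcreteCategory.congr_hom (Scheme.ΓSpecIso_inv_naturality (CommRingCat.ofHom σ.toRingHom)) c).symm

/-- The multiplier on `W × M`. -/
noncomputable def mult (c : M) (W : (Spec (CommRingCat.of K)).Etale) :
    gsecRing K ((prodWith (mor K M) (mor_etale K M)).P.obj W) :=
  rmap K ((prodWith (mor K M) (mor_etale K M)).q W) (fn K M c)

theorem rmap_mult (c : M) {V W : (Spec (CommRingCat.of K)).Etale} (g : V ⟶ W) :
    rmap K ((prodWith (mor K M) (mor_etale K M)).P.map g) (mult K M c W) = mult K M c V := by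
  refine (rmap_comp K _ _ _).trans ?_
  rw [(prodWith (mor K M) (mor_etale K M)).q_nat]
  rfl

set_option backward.isDefEq.respectTransparency.types false in
/-- Multiplication by a constant on `f_* f^* G_a`. -/
noncomputable def mulHom [Etale (mor K M)] [EtShriek.JCont (mor K M)] (c : M) :
    (EtCoh.push (mor K M)).obj ((EtShriek.restrAlong (mor K M)).obj (EtCoh.Ga _)) ⟶
      (EtCoh.push (mor K M)).obj ((EtShriek.restrAlong (mor K M)).obj (EtCoh.Ga _)) :=
  ⟨{ app := fun W => AddCommGrpCat.ofHom
        ((AddEquiv.ulift.symm.toAddMonoidHom.comp (AddMonoidHom.mulLeft (mult K M c W.unop))).comp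
          (AddEquiv.ulift (α := gsecRing K ((prodWith (mor K M) (mor_etale K M)).P.obj W.unop))).toAddMonoidHom)
     naturality := fun V W g => by
        ext ⟨s⟩
        refine ULift.ext _ _ ?_
        show mult K M c W.unop * rmap K ((prodWith (mor K M) (mor_etale K M)).P.map g.unop) s =
          rmap K ((prodWith (mor K M) (mor_etale K M)).P.map g.unop) (mult K M c V.unop * (s : gsecRing K _))
        rw [map_mul, rmap_mult] }⟩

set_option backward.isDefEq.respectTransparency.types false in
/-- `G_a` is a retract of its direct image from a Galois extension. -/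
theorem exists_retraction [Etale (mor K M)] [EtShriek.JCont (mor K M)] :
    ∃ r : (EtCoh.push (mor K M)).obj ((EtShriek.restrAlong (mor K M)).obj (EtCoh.Ga _)) ⟶ EtCoh.Ga _,
      (Groth.EtaleBase.restrPushAdj (mor K M)).unit.app _ ≫ r = 𝟙 _ := by
  classical
  letI : Fintype (obj K M ⟶ obj K M) := Fintype.ofEquiv _ (homEquiv K (L := M) (M := M)).symm
  let P := prodWith (mor K M) (mor_etale K M)
  obtain ⟨c, hc⟩ := Algebra.trace_surjective K M 1
  refine ⟨mulHom K M c ≫ ⟨SiteTrace.traceHom P P _ (EtCoh.Ga _) (hcov K M) (local_auto K (M := M))⟩, ?_⟩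
  refine ObjectProperty.hom_ext _ (NatTrans.ext (funext fun W => ?_))
  ext ⟨s⟩
  refine SiteTrace.map_p_injective P _ (EtCoh.Ga _) (hcov K M) W.unop ?_
  refine (SiteTrace.map_p_trace P P _ (EtCoh.Ga _) (hcov K M) (local_auto K (M := M)) W.unop
    (ULift.up (mult K M c W.unop * rmap K (P.p.app W.unop) s))).trans ?_
  show _ = ULift.up (rmap K (P.p.app W.unop) s)
  have hsum : ∀ (U : (Spec (CommRingCat.of K)).Etale) (f : (obj K M ⟶ obj K M) → gsecRing K U),
      (∑ σ, (ULift.up (f σ) : ULift.{u + 1} (gsecRing K U))) = ULift.up (∑ σ, f σ) := fun U f =>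
    (map_sum (AddEquiv.ulift.symm : gsecRing K U ≃+ ULift.{u + 1} (gsecRing K U)) f _).symm
  have hterm : ∀ σ : obj K M ⟶ obj K M,
      (EtCoh.Ga (Spec (CommRingCat.of K))).obj.map (P.mapSnd P σ W.unop).op
        (ULift.up (mult K M c W.unop * rmap K (P.p.app W.unop) s)) =
      ULift.up (rmap K (P.q W.unop) (fn K M (homEquiv K σ c)) * rmap K (P.p.app W.unop) s) := fun σ => by
    rw [Ga_map, map_mul, mult, rmap_comp, rmap_comp, P.mapSnd_p, P.mapSnd_q, ← rmap_comp,
      ← rmap_fn, Equiv.symm_apply_apply]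
  rw [SiteTrace.traceAux, Finset.sum_congr rfl fun σ _ => hterm σ]
  refine (hsum _ _).trans (congrArg ULift.up ?_)
  rw [← Finset.sum_mul, ← map_sum, ← map_sum]
  have : (∑ σ : obj K M ⟶ obj K M, homEquiv K σ c) = 1 := by
    have h := trace_eq_sum_automorphisms (K := K) c
    rw [hc, map_one] at h
    rw [h]
    exact Fintype.sum_equiv ((homEquiv K (L := M) (M := M)).trans (algEquivEquivAlgHom K M).toEquiv.symm) _ _
      fun σ => rfl
  rw [this, map_one, map_one, one_mul]

set_option backward.isDefEq.respectTransparency.types false in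
/-- Higher cohomology of `G_a` over a field vanishes. -/
theorem subsingleton_H_Ga (q : ℕ) (hq : 0 < q) :
    Subsingleton (EtCoh.H (Spec (CommRingCat.of K)) (EtCoh.Ga _) q) := by
  suffices ∀ x : EtCoh.H (Spec (CommRingCat.of K)) (EtCoh.Ga _) q, x = 0 from
    ⟨fun a b => (this a).trans (this b).symm⟩
  intro x
  obtain ⟨L, _, _, _, _, _, hL⟩ := exists_Hpull_eq_zero K _ q hq x
  obtain ⟨M, _, _, _, _, ⟨ι⟩⟩ := exists_galois K L
  letI : Algebra L M := ι.toRingHom.toAlgebra
  haveI : IsScalarTower K L M := IsScalarTower.of_algebraMap_eq fun r => (ι.commutes r).symm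
  have hM : EtCore.Hpull (mor K M) (EtCoh.Ga _) q x = 0 :=
    (Hpull_tower K L M x).1 ((congrArg (fun z => EtCore.Hpull (mor L M) _ q z) hL).trans (map_zero _))
  haveI := mor_etale K M
  haveI := Groth.EtaleBase.InjCoh.jCont (mor K M)
  obtain ⟨r, hr⟩ := exists_retraction K M
  have h0 := comp_unit_eq_zero M x ((Hpull_eq_zero_iff _ x).1 hM)
  refine (Ext.comp_mk₀_id x).symm.trans ?_
  show Ext.comp x (Ext.mk₀ (𝟙 (EtCoh.Ga (Spec (CommRingCat.of K))))) (add_zero q) = 0
  rw [show 𝟙 (EtCoh.Ga (Spec (CommRingCat.of K))) = _ from hr.symm,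
    ← show (EtCoh.pullPushAdj (mor K M)).unit.app (EtCoh.Ga _) ≫
      (EtCoh.push (mor K M)).map ((Groth.EtaleBase.pullRestrIso (mor K M)).hom.app _) =
      (Groth.EtaleBase.restrPushAdj (mor K M)).unit.app _ from
      Adjunction.unit_leftAdjointUniq_hom_app _ _ _,
    Category.assoc, ← Ext.mk₀_comp_mk₀, ← Ext.comp_assoc_of_third_deg_zero, h0]
  apply Ext.zero_comp

end Groth.GaloisBrauer.FieldTrace
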