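import Groth.Agent.GaloisBrauer.FieldKill
import Mathlib.GroupTheory.Sylow

/-!
Pullback of classes along towers of field extensions.
-/

set_option autoImplicit false

universe u

open CategoryTheory CategoryTheory.Limits CategoryTheory.Abelian AlgebraicGeometry Opposite

namespace Groth.GaloisBrauer.FieldTrace

section

variable {X Y : Scheme.{u}} (f : X ⟶ Y) [PreservesFiniteLimits (EtCoh.pull f)]

theorem Hpull_eq_zero_iff {F : EtCoh.Ab Y} {i : ℕ} (x : EtCoh.H Y F i) :
    EtCore.Hpull f F i x = 0 ↔ (x : Ext (EtCoh.const Y ℤ) F i).mapExactFunctor (EtCoh.pull f) = 0 := by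
  constructor
  · intro h
    exact (Groth.EtaleBase.InjCoh.precomp_iso_bijective (EtCore.pullConst f ℤ).symm _ i).1
      (h.trans (Ext.comp_zero _ _ _ _ _).symm)
  · intro h
    exact (congrArg (fun z => (Ext.mk₀ (EtCore.pullConst f ℤ).inv).comp z (zero_add i)) h).trans
      (Ext.comp_zero _ _ _ _ _)

theorem mapExt_comp_eq_zero {Z : Scheme.{u}} (g : Y ⟶ Z) [PreservesFiniteLimits (EtCoh.pull g)]
    [PreservesFiniteLimits (EtCoh.pull (f ≫ g))] {A F : EtCoh.Ab Z} {i : ℕ} (x : Ext A F i) :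
    (x.mapExactFunctor (EtCoh.pull g)).mapExactFunctor (EtCoh.pull f) = 0 ↔
      x.mapExactFunctor (EtCoh.pull (f ≫ g)) = 0 := by
  have h := Groth.EtaleBase.ExtAdj.mapExt_natTrans₂ (EtCoh.pull g) (EtCoh.pull f) (EtCoh.pull (f ≫ g))
    (EtCore.pullComp f g).inv A i F x
  constructor
  · intro h0
    rw [h0, Ext.zero_comp] at h
    exact (Groth.EtaleBase.InjCoh.precomp_iso_bijective ((EtCore.pullComp f g).app A).symm _ i).1
      (h.symm.trans (Ext.comp_zero _ _ _ _ _).symm)
  · intro h0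
    rw [h0, Ext.comp_zero] at h
    have e := congrArg (fun z => Ext.comp z (Ext.mk₀ ((EtCore.pullComp f g).hom.app F)) (add_zero i)) h
    simp only [Ext.comp_assoc_of_third_deg_zero, Ext.mk₀_comp_mk₀, Iso.inv_hom_id_app, Ext.zero_comp] at e
    exact (Ext.comp_mk₀_id _).symm.trans e

end

variable (K : Type u) [Field K] (L M : Type u) [Field L] [Field M] [Algebra K L] [Algebra K M]
  [Algebra L M] [IsScalarTower K L M]

theorem mor_comp : mor L M ≫ mor K L = mor K M := by
  show Spec.map _ ≫ Spec.map _ = Spec.map _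
  rw [← Spec.map_comp, ← CommRingCat.ofHom_comp, ← IsScalarTower.algebraMap_eq]

/-- A class killed by `M` after pulling back to `L` is killed by `M`, and conversely. -/
theorem Hpull_tower {F : EtCoh.Ab (Spec (CommRingCat.of K))} {i : ℕ}
    (x : EtCoh.H (Spec (CommRingCat.of K)) F i) :
    EtCore.Hpull (mor L M) _ i (EtCore.Hpull (mor K L) F i x) = 0 ↔ EtCore.Hpull (mor K M) F i x = 0 := by
  rw [Hpull_eq_zero_iff, Hpull_eq_zero_iff]
  have e : (EtCore.Hpull (mor K L) F i x : Ext _ _ i) = (Ext.mk₀ (EtCore.pullConst (mor K L) ℤ).inv).comp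
      ((x : Ext _ F i).mapExactFunctor (EtCoh.pull (mor K L))) (zero_add i) := rfl
  rw [e, Ext.mapExactFunctor_comp, Ext.mapExactFunctor_mk₀]
  have hinj := (Groth.EtaleBase.InjCoh.precomp_iso_bijective
    ((EtCoh.pull (mor L M)).mapIso (EtCore.pullConst (mor K L) ℤ).symm)
    ((EtCoh.pull (mor L M)).obj ((EtCoh.pull (mor K L)).obj F)) i).1
  rw [show ((Ext.mk₀ ((EtCoh.pull (mor L M)).map (EtCore.pullConst (mor K L) ℤ).inv)).comp
      (((x : Ext _ F i).mapExactFunctor (EtCoh.pull (mor K L))).mapExactFunctor (EtCoh.pull (mor L M)))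
      (zero_add i) = 0) ↔ ((x : Ext _ F i).mapExactFunctor (EtCoh.pull (mor K L))).mapExactFunctor
        (EtCoh.pull (mor L M)) = 0 from ⟨fun h => hinj (h.trans (Ext.comp_zero _ _ _ _ _).symm),
          fun h => by rw [h, Ext.comp_zero]⟩,
    mapExt_comp_eq_zero]
  have hc : ∀ {f g : Spec (CommRingCat.of M) ⟶ Spec (CommRingCat.of K)} (_ : f = g),
      (x : Ext _ F i).mapExactFunctor (EtCoh.pull f) = 0 ↔
        (x : Ext _ F i).mapExactFunctor (EtCoh.pull g) = 0 := by
    rintro f g rfl; exact Iff.rfl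
  exact hc (mor_comp K L M)

end Groth.GaloisBrauer.FieldTrace
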