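import Groth.Agent.GaloisBrauer.CyclicSeq
import Groth.Agent.GaloisBrauer.FieldGa
import Groth.Agent.GaloisBrauer.FieldTower
import Groth.Agent.EtaleBase.GmPic.Class
import Groth.Prelude.Def_EtGm
import Mathlib.RingTheory.Norm.Basic

/-!
For a cyclic extension `M/K`, the norm is surjective iff `H²(K, 𝔾ₘ) → H²(M, 𝔾ₘ)` is injective.
-/

set_option autoImplicit false
set_option backward.isDefEq.respectTransparency.types false

universe u

open CategoryTheory CategoryTheory.Limits CategoryTheory.Abelian AlgebraicGeometry Opposite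

namespace Groth.GaloisBrauer.FieldTrace

/-- Hilbert 90 on the étale site of a field. -/
theorem subsingleton_H_one_Gm (K : Type u) [Field K] :
    Subsingleton (EtCoh.H (Spec (CommRingCat.of K)) (EtCoh.Gm _) 1) :=
  Groth.EtaleBase.GmPic.H_one_Gm_subsingleton (default : PrimeSpectrum K) fun U hU =>
    TopologicalSpace.Opens.ext (Set.eq_univ_of_forall fun x => by
      rwa [Subsingleton.elim (α := PrimeSpectrum K) x default])

variable {K : Type u} [Field K] (M : Type u) [Field M] [Algebra K M] [FiniteDimensional K M]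
  [Algebra.IsSeparable K M]

theorem subsingleton_H_push (C : EtCoh.Ab (Spec (CommRingCat.of M))) (n : ℕ)
    (h : Subsingleton (EtCoh.H (Spec (CommRingCat.of M)) C n)) :
    Subsingleton (EtCoh.H (Spec (CommRingCat.of K)) ((EtCoh.push (mor K M)).obj C) n) := by
  haveI := (push_exact K M).1
  haveI := (push_exact K M).2
  haveI := mor_etale K M
  haveI := Groth.EtaleBase.InjCoh.jCont (mor K M)
  haveI : Subsingleton (Ext ((EtCoh.pull (mor K M)).obj (EtCoh.const (Spec (CommRingCat.of K)) ℤ)) C n) :=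
    ((Equiv.ofBijective _ (Groth.EtaleBase.InjCoh.precomp_iso_bijective
      (EtCore.pullConst (mor K M) ℤ).symm C n))).subsingleton (β := EtCoh.H (Spec (CommRingCat.of M)) C n)
  exact (Equiv.ofBijective _ (Groth.EtaleBase.ExtAdj.adjExt_bijective_of_exact
    (EtCoh.pullPushAdj (mor K M)) (EtCoh.const (Spec (CommRingCat.of K)) ℤ) C n)).subsingleton

section

variable [Etale (mor K M)] [EtShriek.JCont (mor K M)]

/-- Units restrict to units. -/
noncomputable def restrGmIso :
    (EtShriek.restrAlong (mor K M)).obj (EtCoh.Gm (Spec (CommRingCat.of K))) ≅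
      EtCoh.Gm (Spec (CommRingCat.of M)) :=
  (fullyFaithfulSheafToPresheaf _ _).preimageIso (NatIso.ofComponents (fun _ => Iso.refl _) fun _ =>
    (Category.comp_id _).trans (Category.id_comp _).symm)

theorem subsingleton_H_one_pushRestr :
    Subsingleton (EtCoh.H (Spec (CommRingCat.of K)) (pushRestr M (EtCoh.Gm _)) 1) := by
  refine subsingleton_H_push M _ 1 ?_
  haveI := subsingleton_H_one_Gm M
  exact (Equiv.ofBijective (fun x : EtCoh.H (Spec (CommRingCat.of M))
      ((EtShriek.restrAlong (mor K M)).obj (EtCoh.Gm _)) 1 =>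
    (x.comp (Ext.mk₀ (restrGmIso M).hom) (add_zero 1) : EtCoh.H (Spec (CommRingCat.of M)) (EtCoh.Gm _) 1))
    ⟨fun a b h => by
      have := congrArg (fun z => Ext.comp z (Ext.mk₀ (restrGmIso (K := K) M).inv) (add_zero 1)) h
      simpa only [Ext.comp_assoc_of_third_deg_zero, Ext.mk₀_comp_mk₀, Iso.hom_inv_id, Ext.comp_mk₀_id] using this,
      fun b => ⟨b.comp (Ext.mk₀ (restrGmIso M).inv) (add_zero 1), Subsingleton.elim _ _⟩⟩).subsingleton

theorem comp_cycUnit_eq_zero {A : EtCoh.Ab (Spec (CommRingCat.of K))} (F : EtCoh.Ab (Spec (CommRingCat.of K)))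
    {q : ℕ} (x : Ext A F q) (hx : x.mapExactFunctor (EtCoh.pull (mor K M)) = 0) :
    x.comp (Ext.mk₀ (cycUnit M F)) (add_zero q) = 0 := by
  have h := congrArg (fun z => Ext.comp z (Ext.mk₀ ((EtCoh.push (mor K M)).map
    ((Groth.EtaleBase.pullRestrIso (mor K M)).hom.app F))) (add_zero q)) (comp_unit_eq_zero M x hx)
  simp only [Ext.zero_comp, Ext.comp_assoc_of_third_deg_zero, Ext.mk₀_comp_mk₀] at h
  rwa [show (EtCoh.pullPushAdj (mor K M)).unit.app F ≫
      (EtCoh.push (mor K M)).map ((Groth.EtaleBase.pullRestrIso (mor K M)).hom.app F) = cycUnit M F from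
    Adjunction.unit_leftAdjointUniq_hom_app _ _ F] at h

theorem mapExact_eq_zero_of_comp_cycUnit {A : EtCoh.Ab (Spec (CommRingCat.of K))}
    (F : EtCoh.Ab (Spec (CommRingCat.of K)))
    {q : ℕ} (x : Ext A F q) (hx : x.comp (Ext.mk₀ (cycUnit M F)) (add_zero q) = 0) :
    x.mapExactFunctor (EtCoh.pull (mor K M)) = 0 := by
  haveI := (push_exact K M).1
  haveI := (push_exact K M).2
  have hu : (EtCoh.pullPushAdj (mor K M)).unit.app F ≫
      (EtCoh.push (mor K M)).map ((Groth.EtaleBase.pullRestrIso (mor K M)).hom.app F) = cycUnit M F :=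
    Adjunction.unit_leftAdjointUniq_hom_app _ _ F
  have h := congrArg (fun z => Ext.comp z (Ext.mk₀ ((EtCoh.push (mor K M)).map
    ((Groth.EtaleBase.pullRestrIso (mor K M)).inv.app F))) (add_zero q)) hx
  simp only [Ext.zero_comp, Ext.comp_assoc_of_third_deg_zero, Ext.mk₀_comp_mk₀, ← hu, Category.assoc,
    ← Functor.map_comp, Iso.hom_inv_id_app, CategoryTheory.Functor.map_id, Category.comp_id] at h
  have h' : x.comp (Ext.mk₀ ((EtCoh.pullPushAdj (mor K M)).unit.app F)) (add_zero q) = 0 :=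
    (congrArg (fun f => x.comp (Ext.mk₀ f) (add_zero q)) (Category.comp_id _).symm).trans h
  have e := congrArg (Groth.EtaleBase.ExtAdj.adjExt (EtCoh.pullPushAdj (mor K M)) A
    ((EtCoh.pull (mor K M)).obj F) q) h'
  rw [map_zero, Groth.EtaleBase.ExtAdj.adjExt_apply, Ext.mapExactFunctor_comp, Ext.mapExactFunctor_mk₀,
    Ext.comp_assoc_of_third_deg_zero, Ext.mk₀_comp_mk₀] at e
  refine ((Ext.comp_mk₀_id _).symm.trans ?_).trans e
  exact congrArg (fun f => (x.mapExactFunctor (EtCoh.pull (mor K M))).comp (Ext.mk₀ f) (add_zero q))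
    ((EtCoh.pullPushAdj (mor K M)).left_triangle_components F).symm

/-- Units as sections of `𝔾ₘ`. -/
noncomputable def gmSec {U : (Spec (CommRingCat.of K)).Etale} (u : (gsecRing K U)ˣ) :
    (EtCoh.Gm (Spec (CommRingCat.of K))).obj.obj (op U) :=
  ULift.up (Additive.ofMul u)

theorem gmSec_surjective {U : (Spec (CommRingCat.of K)).Etale} : Function.Surjective (gmSec (U := U)) :=
  fun s => ⟨Additive.toMul s.down, rfl⟩

theorem gmSec_injective {U : (Spec (CommRingCat.of K)).Etale} : Function.Injective (gmSec (U := U)) :=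
  fun _ _ h => Additive.ofMul.injective (ULift.up_inj.1 h)

theorem map_gmSec {U V : (Spec (CommRingCat.of K)).Etale} (g : V ⟶ U) (u : (gsecRing K U)ˣ) :
    (EtCoh.Gm (Spec (CommRingCat.of K))).obj.map g.op (gmSec u) =
      gmSec (Units.map (rmap K g).toMonoidHom u) := rfl

theorem gmSec_one {U : (Spec (CommRingCat.of K)).Etale} : gmSec (1 : (gsecRing K U)ˣ) = 0 := rfl

theorem gmSec_mul {U : (Spec (CommRingCat.of K)).Etale} (a b : (gsecRing K U)ˣ) :
    gmSec (a * b) = gmSec a + gmSec b := rfl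

theorem gmSec_prod {U : (Spec (CommRingCat.of K)).Etale} {ι : Type*} (s : Finset ι) (f : ι → (gsecRing K U)ˣ) :
    gmSec (∏ i ∈ s, f i) = ∑ i ∈ s, gmSec (f i) := by
  classical
  induction s using Finset.induction_on with
  | empty => rw [Finset.prod_empty, Finset.sum_empty]; exact gmSec_one
  | insert i s hi ih => rw [Finset.prod_insert hi, Finset.sum_insert hi, gmSec_mul, ih]

/-- Units of the field as sections at the field point. -/
noncomputable def unitSec (y : Mˣ) : (EtCoh.Gm (Spec (CommRingCat.of K))).obj.obj (op (obj K M)) :=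
  gmSec (Units.mapEquiv (RingEquiv.toMulEquiv (Scheme.ΓSpecIso (CommRingCat.of M)).symm.commRingCatIsoToRingEquiv) y)

/-- Units of the base field as global sections. -/
noncomputable def unitTop (z : Kˣ) :
    (EtCoh.Gm (Spec (CommRingCat.of K))).obj.obj (op (EtCoh.top (Spec (CommRingCat.of K)))) :=
  gmSec (Units.mapEquiv (RingEquiv.toMulEquiv (Scheme.ΓSpecIso (CommRingCat.of K)).symm.commRingCatIsoToRingEquiv) z)

theorem unitSec_surjective : Function.Surjective (unitSec (K := K) M) :=
  gmSec_surjective.comp (MulEquiv.surjective _)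

theorem unitTop_surjective : Function.Surjective (unitTop (K := K)) :=
  gmSec_surjective.comp (MulEquiv.surjective _)

theorem unitSec_injective : Function.Injective (unitSec (K := K) M) :=
  gmSec_injective.comp (MulEquiv.injective _)

theorem map_galHom_unitSec (σ : M ≃ₐ[K] M) (y : Mˣ) :
    (EtCoh.Gm (Spec (CommRingCat.of K))).obj.map (galHom M σ).op (unitSec M y) =
      unitSec M (Units.map σ.toAlgHom.toRingHom.toMonoidHom y) := by
  refine (map_gmSec _ _).trans (congrArg gmSec (Units.ext ?_))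
  exact (ConcreteCategory.congr_hom (Scheme.ΓSpecIso_inv_naturality (CommRingCat.ofHom σ.toAlgHom.toRingHom))
    (y : M)).symm

theorem map_toTop_unitTop (z : Kˣ) :
    (EtCoh.Gm (Spec (CommRingCat.of K))).obj.map (toTop (obj K M)).op (unitTop z) =
      unitSec M (Units.map (algebraMap K M).toMonoidHom z) := by
  have hl : (toTop (obj K M)).left = mor K M :=
    (Category.comp_id _).symm.trans (MorphismProperty.Over.w (toTop (obj K M)))
  refine (map_gmSec _ _).trans (congrArg gmSec (Units.ext ?_))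
  refine (ConcreteCategory.congr_hom (congrArg (fun f : Spec (CommRingCat.of M) ⟶ Spec (CommRingCat.of K) =>
    f.appTop) hl) _).trans ?_
  exact (ConcreteCategory.congr_hom (Scheme.ΓSpecIso_inv_naturality (CommRingCat.ofHom (algebraMap K M)))
    (z : K)).symm

theorem unitSec_prod {ι : Type*} (s : Finset ι) (f : ι → Mˣ) :
    unitSec (K := K) M (∏ i ∈ s, f i) = ∑ i ∈ s, unitSec M (f i) :=
  (congrArg gmSec (map_prod _ _ _)).trans (gmSec_prod _ _)

/-- The point of `top × M` given by the identity. -/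
noncomputable def topPoint : obj K M ⟶ (prodWith (mor K M) (mor_etale K M)).P.obj (EtCoh.top _) :=
  (prodWith (mor K M) (mor_etale K M)).lift (toTop _) (𝟙 _)

theorem topPoint_q : topPoint (K := K) M ≫ (prodWith (mor K M) (mor_etale K M)).q _ = 𝟙 _ :=
  (prodWith (mor K M) (mor_etale K M)).lift_q _ _

theorem topPoint_mapSnd (σ : M ≃ₐ[K] M) :
    topPoint M ≫ (prodWith (mor K M) (mor_etale K M)).mapSnd (prodWith (mor K M) (mor_etale K M)) (galHom M σ) _ =
      galHom M σ ≫ topPoint M := by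
  refine (prodWith (mor K M) (mor_etale K M)).hom_ext _ _ ((EtCore.topIsTerminal _).hom_ext _ _) ?_
  rw [Category.assoc, SiteTrace.ProdWith.mapSnd_q, ← Category.assoc, topPoint_q, Category.id_comp,
    Category.assoc, topPoint_q, Category.comp_id]

variable [IsGalois K M]

/-- The trace on global sections. -/
theorem map_toTop_cycTrace (F : EtCoh.Ab (Spec (CommRingCat.of K)))
    (s : (pushRestr M F).obj.obj (op (EtCoh.top (Spec (CommRingCat.of K))))) :
    F.obj.map (toTop (obj K M)).op ((cycTrace M F).hom.app (op (EtCoh.top _)) s) =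
      ∑ σ : M ≃ₐ[K] M, F.obj.map (galHom M σ).op (F.obj.map (topPoint M).op s) := by
  have h := congrArg (F.obj.map (topPoint M).op) (map_p_cycTrace (M := M) (F := F) (EtCoh.top _) s)
  refine (congrArg (fun k : obj K M ⟶ EtCoh.top (Spec (CommRingCat.of K)) =>
    F.obj.map k.op _) ((EtCore.topIsTerminal _).hom_ext (toTop _) _)).trans
    ((map_map F _ _ _).symm.trans (h.trans ?_))
  refine (map_sum _ _ _).trans (Finset.sum_congr rfl fun σ _ => ?_)
  exact (map_map F _ _ _).trans ((congrArg (fun k => F.obj.map k.op s) (topPoint_mapSnd M σ)).trans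
    (map_map F _ _ _).symm)

theorem sum_galHom_unitSec (y : Mˣ) :
    (∑ σ : M ≃ₐ[K] M, (EtCoh.Gm (Spec (CommRingCat.of K))).obj.map (galHom M σ).op (unitSec M y)) =
      unitSec M (∏ σ : M ≃ₐ[K] M, Units.map σ.toAlgHom.toRingHom.toMonoidHom y) :=
  (Finset.sum_congr rfl fun σ _ => map_galHom_unitSec M σ y).trans (unitSec_prod M _ _).symm

theorem prod_galois_eq_norm (y : Mˣ) :
    ((∏ σ : M ≃ₐ[K] M, Units.map σ.toAlgHom.toRingHom.toMonoidHom y : Mˣ) : M) =
      algebraMap K M (Algebra.norm K (y : M)) := by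
  rw [Algebra.norm_eq_prod_automorphisms, Units.coe_prod]
  rfl

theorem map_topPoint_q (F : EtCoh.Ab (Spec (CommRingCat.of K))) (u : F.obj.obj (op (obj K M))) :
    F.obj.map (topPoint M).op
      (F.obj.map ((prodWith (mor K M) (mor_etale K M)).q (EtCoh.top _)).op u) = u :=
  (map_map F ((prodWith (mor K M) (mor_etale K M)).q (EtCoh.top _)) (topPoint M) u).trans
    ((congrArg (fun k : obj K M ⟶ obj K M => F.obj.map k.op u) (topPoint_q M)).trans (map_id' F u))

/-- Surjectivity of the trace of `𝔾ₘ` on global sections is surjectivity of the norm. -/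
theorem trace_top_surjective_iff :
    Function.Surjective ((cycTrace M (EtCoh.Gm (Spec (CommRingCat.of K)))).hom.app (op (EtCoh.top _))) ↔
      ∀ x : K, x ≠ 0 → ∃ y : M, Algebra.norm K y = x := by
  constructor
  · intro h x hx
    obtain ⟨s, hs⟩ := h (unitTop (Units.mk0 x hx))
    obtain ⟨y, hy⟩ := unitSec_surjective (K := K) M
      ((EtCoh.Gm (Spec (CommRingCat.of K))).obj.map (topPoint M).op s)
    refine ⟨y, (algebraMap K M).injective ((prod_galois_eq_norm M y).symm.trans ?_)⟩
    have e := ((map_toTop_unitTop M (Units.mk0 x hx)).symm.trans ((congrArg _ hs.symm).trans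
      (map_toTop_cycTrace M _ s))).trans ((Finset.sum_congr rfl fun σ _ => congrArg _ hy.symm).trans
      (sum_galHom_unitSec M y))
    exact (congrArg Units.val (unitSec_injective M e)).symm
  · intro h t
    obtain ⟨z, rfl⟩ := unitTop_surjective t
    obtain ⟨y, hy⟩ := h z z.ne_zero
    have hy0 : y ≠ 0 := fun h0 => z.ne_zero (by rw [← hy, h0, Algebra.norm_zero])
    refine ⟨(EtCoh.Gm (Spec (CommRingCat.of K))).obj.map ((prodWith (mor K M) (mor_etale K M)).q _).op
      (unitSec M (Units.mk0 y hy0)), map_top_injective _ (toTop (obj K M)) (default : PrimeSpectrum M) ?_⟩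
    refine (map_toTop_cycTrace M _ _).trans ?_
    refine ((Finset.sum_congr rfl fun σ _ => congrArg _ (map_topPoint_q M _ _)).trans
      (sum_galHom_unitSec M _)).trans ?_
    refine (congrArg _ (Units.ext ?_)).trans (map_toTop_unitTop M z).symm
    exact (prod_galois_eq_norm M _).trans (congrArg (algebraMap K M) hy)

/-- The norm of a cyclic extension is surjective iff `H²(K, 𝔾ₘ) → H²(M, 𝔾ₘ)` is injective. -/
theorem norm_surjective_iff {σ₀ : M ≃ₐ[K] M} (hσ : ∀ τ : M ≃ₐ[K] M, τ ∈ Subgroup.zpowers σ₀) :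
    (∀ x : K, x ≠ 0 → ∃ y : M, Algebra.norm K y = x) ↔
      ∀ x : EtCoh.H (Spec (CommRingCat.of K)) (EtCoh.Gm _) 2,
        EtCore.Hpull (mor K M) _ 2 x = 0 → x = 0 := by
  let F := EtCoh.Gm (Spec (CommRingCat.of K))
  rw [← trace_top_surjective_iff M]
  obtain ⟨I, π, j, w₁, w₂, hS₁, hS₂⟩ := exists_sequences (M := M) (F := F) hσ
  haveI := subsingleton_H_one_pushRestr (K := K) M
  constructor
  · intro h x hx
    obtain ⟨c, hc⟩ := Ext.covariant_sequence_exact₁ _ hS₁ x
      (comp_cycUnit_eq_zero M F x ((Hpull_eq_zero_iff _ x).1 hx)) (n₀ := 1) rfl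
    obtain ⟨d, hd⟩ := Ext.covariant_sequence_exact₁ _ hS₂ c (Subsingleton.elim
      (c.comp (Ext.mk₀ j) (add_zero 1) : EtCoh.H (Spec (CommRingCat.of K)) (pushRestr M F) 1) 0) (n₀ := 0) rfl
    obtain ⟨z, rfl⟩ := (Ext.mk₀_bijective _ _).2 d
    obtain ⟨s, hs⟩ := h (Groth.EtaleBase.EtLimit.Resn.ev F z)
    have hz : (Groth.EtaleBase.EtLimit.Resn.ev (pushRestr M F)).symm s ≫ cycTrace M F = z := by
      refine (Groth.EtaleBase.EtLimit.Resn.ev F).injective ?_
      rw [Groth.EtaleBase.EtLimit.Resn.ev_comp, AddEquiv.apply_symm_apply]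
      exact hs
    rw [← hc, ← hd, ← hz, ← Ext.mk₀_comp_mk₀_assoc, hS₂.comp_extClass, Ext.comp_zero, Ext.zero_comp]
  · intro h t
    let d : EtCoh.H (Spec (CommRingCat.of K)) F 0 := Ext.mk₀ ((Groth.EtaleBase.EtLimit.Resn.ev F).symm t)
    have hx : ((d.comp hS₂.extClass (zero_add 1)).comp hS₁.extClass (show 1 + 1 = 2 from rfl) :
        EtCoh.H (Spec (CommRingCat.of K)) F 2) = 0 := by
      refine h _ ((Hpull_eq_zero_iff _ _).2 (mapExact_eq_zero_of_comp_cycUnit M F _ ?_))
      rw [Ext.comp_assoc_of_third_deg_zero, hS₁.extClass_comp, Ext.comp_zero]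
    obtain ⟨e, he⟩ := Ext.covariant_sequence_exact₃ _ hS₁ _ (show 1 + 1 = 2 from rfl) hx
    have h1 : d.comp hS₂.extClass (zero_add 1) = 0 := by
      refine he.symm.trans ((congrArg (fun z : EtCoh.H (Spec (CommRingCat.of K)) (pushRestr M F) 1 =>
        Ext.comp z (Ext.mk₀ π) (add_zero 1)) (Subsingleton.elim e 0)).trans (Ext.zero_comp (β := Ext.mk₀ π) ..))
    obtain ⟨y, hy⟩ := Ext.covariant_sequence_exact₃ _ hS₂ d (zero_add 1) h1
    obtain ⟨s, rfl⟩ := (Ext.mk₀_bijective _ _).2 y
    rw [Ext.mk₀_comp_mk₀] at hy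
    refine ⟨Groth.EtaleBase.EtLimit.Resn.ev (pushRestr M F) s, ?_⟩
    have := congrArg (Groth.EtaleBase.EtLimit.Resn.ev F) ((Ext.mk₀_bijective _ _).1 hy)
    rw [Groth.EtaleBase.EtLimit.Resn.ev_comp, AddEquiv.apply_symm_apply] at this
    exact this

end

end Groth.GaloisBrauer.FieldTrace
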