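import Mathlib.RingTheory.Artinian.Module
import Mathlib.RingTheory.Jacobson.Radical
import Mathlib.LinearAlgebra.FiniteDimensional.Lemmas
import Mathlib.Algebra.Module.Projective
import Mathlib.LinearAlgebra.Pi
import Mathlib.LinearAlgebra.Dimension.Free
import Mathlib.LinearAlgebra.Dimension.Constructions
/-! # Cancellation: a module with `W^d ≅ R^d` over a finite-dimensional algebra is free of rank one -/

universe u v w x

namespace Groth.GaloisBrauer

variable (k : Type u) [Field k] {R : Type v} [Ring R] [Algebra k R]
  {W : Type w} [AddCommGroup W] [Module k W] [Module R W] [IsScalarTower k R W]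

theorem finite_hom [FiniteDimensional k W] (S : Type x) [AddCommGroup S] [Module k S] [Module R S]
    [IsScalarTower k R S] [FiniteDimensional k S] : FiniteDimensional k (W →ₗ[R] S) :=
  FiniteDimensional.of_injective (LinearMap.restrictScalarsₗ k R W S k) (LinearMap.restrictScalars_injective k)

instance (priority := 100) finite_submodule {Q : Type x} [AddCommGroup Q] [Module k Q] [Module R Q]
    [IsScalarTower k R Q] [FiniteDimensional k Q] (S : Submodule R Q) : FiniteDimensional k S :=
  FiniteDimensional.of_injective (S.subtype.restrictScalars k) Subtype.val_injective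

/-- A semisimple module with no more homs to simples than `W` is a quotient of `W`. -/
theorem exists_surjective_to_semisimple {Q : Type x} [AddCommGroup Q] [Module k Q] [Module R Q]
    [IsScalarTower k R Q] [FiniteDimensional k Q] [IsSemisimpleModule R Q] [FiniteDimensional k W]
    (h : ∀ S : Submodule R Q, IsSimpleModule R S →
      Module.finrank k (Q →ₗ[R] S) ≤ Module.finrank k (W →ₗ[R] S)) :
    ∃ p : W →ₗ[R] Q, Function.Surjective p := by
  suffices H : ∀ m, m ≤ Module.finrank k Q →
      ∃ p : W →ₗ[R] Q, m ≤ Module.finrank k (LinearMap.range (p.restrictScalars k)) by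
    obtain ⟨p, hp⟩ := H _ le_rfl
    exact ⟨p, (LinearMap.range_eq_top (f := p.restrictScalars k)).1 (Submodule.eq_top_of_finrank_eq
      (le_antisymm (Submodule.finrank_le _) hp))⟩
  intro m
  induction m with
  | zero => exact fun _ => ⟨0, Nat.zero_le _⟩
  | succ m ih =>
    intro hm
    obtain ⟨p, hp⟩ := ih (Nat.le_of_succ_le hm)
    by_cases hlt : m + 1 ≤ Module.finrank k (LinearMap.range (p.restrictScalars k))
    · exact ⟨p, hlt⟩
    let N := LinearMap.range p
    obtain ⟨N', hN'⟩ := exists_isCompl N
    have hN'0 : N' ≠ ⊥ := by
      rintro rfl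
      have : N = ⊤ := by simpa using hN'.sup_eq_top
      have : LinearMap.range (p.restrictScalars k) = ⊤ := by
        rw [LinearMap.range_eq_top]
        exact (LinearMap.range_eq_top (f := p)).1 this
      rw [this, finrank_top] at hlt
      exact hlt hm
    obtain ⟨S, hSle, hS⟩ : ∃ S ≤ N', IsSimpleModule R S := by
      rcases IsSemisimpleModule.eq_bot_or_exists_simple_le N' with h | h
      · exact absurd h hN'0
      · exact h
    obtain ⟨C, hC⟩ := exists_isCompl S
    let π : Q →ₗ[R] S := S.projectionOnto C hC
    have hπS : ∀ s : S, π s = s := fun s => Submodule.projectionOnto_apply_left hC s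
    let Pr : Q →ₗ[R] S := π ∘ₗ N'.subtype ∘ₗ N'.projectionOnto N hN'.symm
    have := finite_hom k (W := W) (R := R) S
    have := finite_hom k (W := Q) (R := R) S
    have := finite_hom k (W := N) (R := R) S
    have hlt' : Module.finrank k (N →ₗ[R] S) < Module.finrank k (Q →ₗ[R] S) := by
      let res : (Q →ₗ[R] S) →ₗ[k] (N →ₗ[R] S) :=
        { toFun := fun f => f ∘ₗ N.subtype, map_add' := fun _ _ => rfl, map_smul' := fun _ _ => rfl }
      have hres : Function.Surjective res := fun f => ⟨f ∘ₗ N.projectionOnto N' hN', LinearMap.ext fun x => by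
        simp [res]⟩
      have hker : LinearMap.ker res ≠ ⊥ := by
        intro h0
        have hPr : Pr ∈ LinearMap.ker res := LinearMap.ext fun x => by
          show π (N'.subtype (N'.projectionOnto N hN'.symm x)) = 0
          rw [Submodule.projectionOnto_apply_right hN'.symm x]
          simp
        rw [h0, Submodule.mem_bot] at hPr
        have : Nontrivial S := IsSimpleModule.nontrivial R S
        obtain ⟨s, hs⟩ := exists_ne (0 : S)
        apply hs
        have := LinearMap.congr_fun hPr (s : Q)
        have e : Pr (s : Q) = s := by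
          show π (N'.subtype (N'.projectionOnto N hN'.symm (⟨s, hSle s.2⟩ : N'))) = s
          rw [Submodule.projectionOnto_apply_left]
          exact hπS s
        rw [← e]; exact this
      have := res.finrank_range_add_finrank_ker
      rw [LinearMap.range_eq_top.2 hres, finrank_top] at this
      have hp : 0 < Module.finrank k (LinearMap.ker res) :=
        Nat.pos_of_ne_zero fun h => hker (Submodule.finrank_eq_zero.1 h)
      omega
    obtain ⟨q, w₀, hw₀, hq⟩ : ∃ (q : W →ₗ[R] S) (w₀ : W), p w₀ = 0 ∧ q w₀ ≠ 0 := by
      by_contra hne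
      push Not at hne
      let lift : (W →ₗ[R] S) →ₗ[k] (N →ₗ[R] S) :=
        { toFun := fun q => ((LinearMap.ker p).liftQ q fun w hw => hne q w hw) ∘ₗ
            p.quotKerEquivRange.symm.toLinearMap
          map_add' := fun q q' => LinearMap.ext fun x => by
            obtain ⟨w, hw⟩ := (LinearMap.ker p).mkQ_surjective (p.quotKerEquivRange.symm x)
            simp [← hw] <;> rfl
          map_smul' := fun r q => LinearMap.ext fun x => by
            obtain ⟨w, hw⟩ := (LinearMap.ker p).mkQ_surjective (p.quotKerEquivRange.symm x)
            simp [← hw] <;> rfl }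
      have hinj : Function.Injective lift := fun q q' he => LinearMap.ext fun w => by
        have h := LinearMap.congr_fun he (p.quotKerEquivRange ((LinearMap.ker p).mkQ w))
        simp only [lift, LinearMap.coe_mk, AddHom.coe_mk, LinearMap.comp_apply, LinearEquiv.coe_coe,
          LinearEquiv.symm_apply_apply] at h
        exact h
      have := LinearMap.finrank_le_finrank_of_injective hinj
      exact absurd ((h S hS).trans this) (not_le.2 hlt')
    refine ⟨p + S.subtype ∘ₗ q, ?_⟩
    set p' := p + S.subtype ∘ₗ q with hp'
    have hqsurj : ∀ s : S, ∃ w, p w = 0 ∧ q w = s := by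
      intro s
      obtain ⟨r, hr⟩ := IsSimpleModule.toSpanSingleton_surjective R hq s
      exact ⟨r • w₀, by rw [map_smul, hw₀, smul_zero], by rw [map_smul]; exact hr⟩
    have hNp : N ≤ LinearMap.range p' := by
      rintro _ ⟨w, rfl⟩
      obtain ⟨w', hw', hw''⟩ := hqsurj (q w)
      exact ⟨w - w', by simp [p', hw', hw'']⟩
    have hne : N < LinearMap.range p' := by
      refine lt_of_le_of_ne hNp fun he => ?_
      have hmem : p' w₀ ∈ N := he ▸ LinearMap.mem_range_self p' w₀
      have hmem' : p' w₀ ∈ N' := by
        simpa [p', hw₀] using hSle (q w₀).2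
      have h0 : p' w₀ = 0 := (Submodule.mem_bot R).1 (hN'.disjoint.le_bot ⟨hmem, hmem'⟩)
      apply hq
      simpa [p', hw₀] using h0
    have : Module.finrank k (LinearMap.range (p.restrictScalars k)) <
        Module.finrank k (LinearMap.range (p'.restrictScalars k)) := by
      apply Submodule.finrank_lt_finrank_of_lt
      exact hne
    omega

variable [FiniteDimensional k R]
include k

/-- Noether–Deuring cancellation in rank one. -/
theorem nonempty_linearEquiv_self_of_pi {ι : Type x} [Fintype ι] [DecidableEq ι] [Nonempty ι]
    (f : (ι → W) ≃ₗ[R] (ι → R)) : Nonempty (W ≃ₗ[R] R) := by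
  classical
  have hd : 0 < Fintype.card ι := Fintype.card_pos
  obtain ⟨i⟩ := ‹Nonempty ι›
  have : Module.Projective R W := by
    have : Module.Projective R (ι → W) := Module.Projective.of_equiv f.symm
    exact Module.Projective.of_split (LinearMap.single R (fun _ => W) i) (LinearMap.proj i)
      (LinearMap.ext fun w => by simp)
  have : FiniteDimensional k (ι → W) := Module.Finite.equiv (f.restrictScalars k).symm
  have : FiniteDimensional k W :=
    FiniteDimensional.of_injective (LinearMap.single k (fun _ => W) i) (fun a b h => by simpa using congrFun h i)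
  have hrank : Module.finrank k W = Module.finrank k R := by
    have h := (f.restrictScalars k).finrank_eq
    rw [Module.finrank_pi_fintype, Module.finrank_pi_fintype] at h
    simp only [Finset.sum_const, Finset.card_univ, smul_eq_mul] at h
    exact Nat.eq_of_mul_eq_mul_left hd h
  let J := Module.jacobson R R
  have : IsArtinian R (R ⧸ J) := isArtinian_of_tower k inferInstance
  have : IsSemisimpleModule R (R ⧸ J) :=
    (IsArtinian.isSemisimpleModule_iff_jacobson R (R ⧸ J)).2 (Module.jacobson_quotient_jacobson R R)
  have hom : ∀ (S : Submodule R (R ⧸ J)),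
      Module.finrank k (W →ₗ[R] S) = Module.finrank k (R →ₗ[R] S) := by
    intro S
    have := finite_hom k (W := W) (R := R) S
    have := finite_hom k (W := R) (R := R) S
    let E : (ι → (W →ₗ[R] S)) ≃ₗ[k] (ι → (R →ₗ[R] S)) :=
      (LinearMap.lsum R (fun _ => W) k).trans
        ((LinearEquiv.congrLeft S k f).trans (LinearMap.lsum R (fun _ => R) k).symm)
    have h := E.finrank_eq
    have := Module.Free.of_divisionRing k (W →ₗ[R] S)
    have := Module.Free.of_divisionRing k (R →ₗ[R] S)
    rw [Module.finrank_pi_fintype, Module.finrank_pi_fintype] at h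
    simp only [Finset.sum_const, Finset.card_univ, smul_eq_mul] at h
    exact Nat.eq_of_mul_eq_mul_left hd h
  obtain ⟨p, hp⟩ := exists_surjective_to_semisimple k (W := W) (R := R) (Q := R ⧸ J) fun S _ => by
    rw [hom S]
    have := finite_hom k (W := R) (R := R) S
    let pre : ((R ⧸ J) →ₗ[R] S) →ₗ[k] (R →ₗ[R] S) :=
      { toFun := fun g => g ∘ₗ J.mkQ, map_add' := fun _ _ => rfl, map_smul' := fun _ _ => rfl }
    exact LinearMap.finrank_le_finrank_of_injective (f := pre) fun g g' he =>
      Submodule.linearMap_qext _ he
  obtain ⟨g, hg⟩ := Module.projective_lifting_property J.mkQ p J.mkQ_surjective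
  have hsurj : Function.Surjective g := by
    rw [← LinearMap.range_eq_top]
    by_contra hne
    obtain ⟨m, hm, hle⟩ := Ideal.exists_le_maximal _ hne
    have hJ : J ≤ m := sInf_le (Ideal.isMaximal_def.1 hm)
    apply hm.ne_top
    rw [Ideal.eq_top_iff_one]
    obtain ⟨w, hw⟩ := hp (J.mkQ 1)
    rw [← hg, LinearMap.comp_apply, Submodule.mkQ_apply, Submodule.mkQ_apply, Submodule.Quotient.eq] at hw
    have h1 := m.sub_mem (hle (LinearMap.mem_range_self g w)) (hJ hw)
    rwa [sub_sub_cancel] at h1
  have hinj : Function.Injective (g.restrictScalars k) :=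
    (LinearMap.injective_iff_surjective_of_finrank_eq_finrank hrank).2 hsurj
  exact ⟨LinearEquiv.ofBijective g ⟨hinj, hsurj⟩⟩

end Groth.GaloisBrauer
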