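import Groth.Agent.GaloisBrauer.NormTower
import Groth.Agent.GaloisBrauer.FieldArtinSchreier
import Groth.Agent.Misc1.Kummer.Basic
import Groth.Agent.S3244
import Mathlib.NumberTheory.Cyclotomic.Gal

/-!
Surjective norms in degree `p` give `p`-cohomological dimension at most one.
-/

set_option autoImplicit false
set_option backward.isDefEq.respectTransparency.types false

universe u

open CategoryTheory CategoryTheory.Limits CategoryTheory.Abelian AlgebraicGeometry Opposite

namespace Groth.GaloisBrauer.FieldTrace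

theorem invertibleOn_field (K : Type u) [Field K] {n : ℕ} (hn : (n : K) ≠ 0) :
    Dix.InvertibleOn (Spec (CommRingCat.of K)) n := by
  intro x h
  let f := ((Spec (CommRingCat.of K)).evaluation ⊤ x trivial).hom.comp
    (Scheme.ΓSpecIso (CommRingCat.of K)).inv.hom
  have h1 : f (n : K) = 0 := (map_natCast f n).trans h
  exact hn (f.injective (h1.trans (map_zero f).symm))

variable (K : Type u) [Field K]

theorem gmSec_nsmul {U : (Spec (CommRingCat.of K)).Etale} (u : (gsecRing K U)ˣ) :
    ∀ n : ℕ, gmSec (u ^ n) = n • gmSec u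
  | 0 => by rw [pow_zero, zero_nsmul]; exact gmSec_one
  | n + 1 => by rw [pow_succ, succ_nsmul, gmSec_mul, gmSec_nsmul u n]

theorem unitTop_pow (z : Kˣ) (n : ℕ) : unitTop (z ^ n) = n • unitTop z :=
  (congrArg gmSec (map_pow _ z n)).trans (gmSec_nsmul K _ n)

theorem unitTop_one : unitTop (1 : Kˣ) = 0 :=
  (congrArg gmSec (map_one _)).trans gmSec_one

theorem powMap_app (n : ℕ) (U : (Spec (CommRingCat.of K)).Etale)
    (s : (EtCoh.Gm (Spec (CommRingCat.of K))).obj.obj (op U)) :
    (EtCoh.powMap (Spec (CommRingCat.of K)) n).hom.app (op U) s = n • s :=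
  nsmul_id_app _ n U s

theorem subsingleton_zmod_two (p : ℕ) [hp : Fact p.Prime] (hpK : (p : K) ≠ 0) {ζ : K} (hζ : IsPrimitiveRoot ζ p)
    (h : NormSurj K p) :
    Subsingleton (EtCoh.H (Spec (CommRingCat.of K)) (EtCoh.const _ (ZMod p)) 2) := by
  let F := EtCoh.Gm (Spec (CommRingCat.of K))
  let e : F.obj.obj (op (EtCoh.top _)) := unitTop (Units.mk0 ζ (hζ.ne_zero hp.out.ne_zero))
  have he : p • e = 0 := (unitTop_pow K _ p).symm.trans ((congrArg unitTop (Units.ext
    (by rw [Units.val_pow_eq_pow_val, Units.val_mk0, hζ.pow_eq_one, Units.val_one]))).trans (unitTop_one K))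
  let ψ := zmodMap e he
  haveI : Mono ψ := mono_zmodMap e he fun h0 => hζ.ne_one hp.out.one_lt (by
    have := (Units.mapEquiv _).injective ((gmSec_injective (h0.trans gmSec_one.symm)).trans (map_one _).symm)
    exact congrArg Units.val this)
  let φ := EtCoh.powMap (Spec (CommRingCat.of K)) p
  have hw : ψ ≫ φ = 0 := by
    show ψ ≫ (p • 𝟙 F) = 0
    rw [Preadditive.comp_nsmul, Category.comp_id]
    refine Eq.trans ?_ (congrArg (fun g => g ≫ ψ) (const_killed (K := K) p) |>.trans zero_comp)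
    rw [Preadditive.nsmul_comp]
    exact congrArg (p • ·) (Category.id_comp ψ).symm
  haveI : Epi φ := Groth.Misc1.Kummer.epi_powMap (invertibleOn_field K hpK)
  haveI : Epi (kernel.lift φ ψ hw) := by
    refine epi_of_points _ fun N _ _ _ _ x => ⟨N, inferInstance, inferInstance, inferInstance,
      inferInstance, 𝟙 _, ?_⟩
    haveI := mor_etale K N
    haveI := Groth.EtaleBase.InjCoh.jCont (mor K N)
    obtain ⟨u, hu⟩ := unitSec_surjective (K := K) N ((kernel.ι φ).hom.app _ x)
    have hup : u ^ p = 1 := by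
      have h1 : φ.hom.app _ ((kernel.ι φ).hom.app _ x) = 0 := by
        show (kernel.ι φ ≫ φ).hom.app _ x = 0
        rw [kernel.condition]
        rfl
      rw [← hu, powMap_app] at h1
      apply unitSec_injective (K := K) N
      refine ((congrArg gmSec (map_pow _ u p)).trans (gmSec_nsmul K _ p)).trans (h1.trans ?_)
      exact ((congrArg gmSec (map_one _)).trans gmSec_one).symm
    obtain ⟨i, -, hi⟩ := (hζ.map_of_injective (algebraMap K N).injective).eq_pow_of_pow_eq_one
      (show (u : N) ^ p = 1 by rw [← Units.val_pow_eq_pow_val, hup, Units.val_one])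
    refine ⟨constSec _ (i : ZMod p), ?_⟩
    haveI : Mono ((sheafToPresheaf _ _).map (kernel.ι φ)) := inferInstance
    refine (AddCommGrpCat.mono_iff_injective ((kernel.ι φ).hom.app (op (obj K N)))).1
      ((NatTrans.mono_iff_mono_app _).1 this (op (obj K N))) ?_
    rw [op_id, CategoryTheory.Functor.map_id]
    refine Eq.trans ?_ hu
    refine (congrArg (fun z : _ ⟶ F => z.hom.app (op (obj K N)) (constSec _ (i : ZMod p)))
      (kernel.lift_ι φ ψ hw)).trans ((zmodMap_constSec e he _ _).trans ?_)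
    have hz : zmodHom e he (i : ZMod p) = i • e := by
      rw [zmodHom, ← Int.cast_natCast i, ZMod.lift_coe]
      show ((i : ℤ) • e) = i • e
      exact natCast_zsmul _ _
    rw [hz, map_nsmul]
    refine (congrArg (i • ·) (map_toTop_unitTop N _)).trans ?_
    refine ((gmSec_nsmul K _ i).symm.trans (congrArg gmSec ((map_pow _ _ i).symm.trans ?_)))
    exact congrArg _ (Units.ext (by rw [Units.val_pow_eq_pow_val]; exact hi))
  haveI : Mono (kernel.lift φ ψ hw ≫ kernel.ι φ) := by rw [kernel.lift_ι]; infer_instance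
  haveI : Mono (kernel.lift φ ψ hw) := mono_of_mono _ (kernel.ι φ)
  haveI : IsIso (kernel.lift φ ψ hw) := isIso_of_mono_of_epi _
  have hS : (ShortComplex.mk (kernel.ι φ) φ (kernel.condition φ)).ShortExact :=
    { exact := ShortComplex.exact_of_f_is_kernel _ (kernelIsKernel φ)
      mono_f := inferInstanceAs (Mono (kernel.ι φ))
      epi_g := ‹_› }
  refine subsingleton_of_forall_eq 0 fun x => ?_
  have hz : ∀ z : EtCoh.H (Spec (CommRingCat.of K)) (kernel φ) 2,
      p • Ext.comp z (Ext.mk₀ (kernel.ι φ)) (add_zero 2) = 0 → z = 0 := fun z hz => by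
    obtain ⟨c, hc⟩ := Ext.covariant_sequence_exact₁ _ hS z
      (eq_zero_of_normSurj p K h _ ⟨1, by rw [pow_one]; exact hz⟩) (n₀ := 1) rfl
    rw [← hc, @Subsingleton.elim _ (subsingleton_H_one_Gm K) c 0, Ext.zero_comp]
  refine (Ext.comp_mk₀_id x).symm.trans ?_
  show Ext.comp x (Ext.mk₀ (𝟙 (EtCoh.const (Spec (CommRingCat.of K)) (ZMod p)))) (add_zero 2) = 0
  rw [← IsIso.hom_inv_id (kernel.lift φ ψ hw), ← Ext.mk₀_comp_mk₀, ← Ext.comp_assoc_of_third_deg_zero]
  refine (congrArg (fun z => Ext.comp z (Ext.mk₀ (inv (kernel.lift φ ψ hw))) (add_zero 2)) (hz _ ?_)).trans ?_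
  · refine (Groth.Misc1.Kummer.comp_mk₀_powMap p _).symm.trans ?_
    rw [Ext.comp_assoc_of_third_deg_zero, Ext.mk₀_comp_mk₀,
      show kernel.ι φ ≫ EtCoh.powMap _ p = 0 from kernel.condition φ, Ext.mk₀_zero]
    exact Ext.comp_zero _ _ _ _ _
  · apply Ext.zero_comp

variable (k : Type u) [Field k] (p : ℕ) [hp : Fact p.Prime]

theorem subsingleton_zmod_two' (hpk : (p : k) ≠ 0) (h : NormSurj k p) :
    Subsingleton (EtCoh.H (Spec (CommRingCat.of k)) (EtCoh.const _ (ZMod p)) 2) := by
  haveI : NeZero (p : k) := ⟨hpk⟩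
  haveI : NeZero p := ⟨hp.out.ne_zero⟩
  let E := CyclotomicField p k
  haveI : IsCyclotomicExtension {p} k E := inferInstance
  haveI : FiniteDimensional k E := IsCyclotomicExtension.finiteDimensional {p} k E
  haveI : IsGalois k E := IsCyclotomicExtension.isGalois {p} k E
  have hζ := IsCyclotomicExtension.zeta_spec p k E
  have hdeg : Module.finrank k E < p := by
    rw [(hζ.powerBasis k).finrank, IsPrimitiveRoot.powerBasis_dim]
    refine lt_of_le_of_lt (Polynomial.natDegree_le_of_dvd (minpoly.dvd _ _ ?_)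
      (Polynomial.cyclotomic_ne_zero p k)) ?_
    · rw [Polynomial.aeval_def, ← Polynomial.eval_map, Polynomial.map_cyclotomic]
      exact hζ.isRoot_cyclotomic hp.out.pos
    · rw [Polynomial.natDegree_cyclotomic, Nat.totient_prime hp.out]
      exact Nat.sub_lt hp.out.pos one_pos
  have hpE : (p : E) ≠ 0 := fun h0 => hpk ((algebraMap k E).injective (by rw [map_natCast, h0, map_zero]))
  haveI := subsingleton_zmod_two E p hpE hζ (h.of_algebra E)
  refine subsingleton_of_forall_eq 0 fun x => ?_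
  have hx : EtCore.Hpull (mor k E) _ 2 x = 0 := by
    have := congrArg (fun z => Ext.comp z (Ext.mk₀ (EtCore.pullConst (mor k E) (ZMod p)).inv) (add_zero 2))
      (Subsingleton.elim ((EtCore.Hpull (mor k E) _ 2 x).comp
        (Ext.mk₀ (EtCore.pullConst (mor k E) (ZMod p)).hom) (add_zero 2) :
          EtCoh.H (Spec (CommRingCat.of E)) (EtCoh.const _ (ZMod p)) 2) 0)
    simpa only [Ext.comp_assoc_of_third_deg_zero, Ext.mk₀_comp_mk₀, Iso.hom_inv_id, Ext.comp_mk₀_id,
      Ext.zero_comp] using this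
  exact eq_zero_of_coprime (nsmul_eq_zero_of_killed (const_killed (K := k) p) x)
    (finrank_nsmul_eq_zero k E _ 2 x hx)
    (Nat.coprime_of_lt_prime Module.finrank_pos.ne' hdeg hp.out)

/-- Dévissage to `ℤ/p` over all finite separable extensions. -/
theorem eq_zero_of_zmod (q : ℕ) (hq : 0 < q)
    (hz : ∀ (L : Type u) [Field L] [Algebra k L] [FiniteDimensional k L] [Algebra.IsSeparable k L],
      Subsingleton (EtCoh.H (Spec (CommRingCat.of L)) (EtCoh.const _ (ZMod p)) q))
    (F : EtCoh.Ab (Spec (CommRingCat.of k))) (hF : EtCoh.IsTorsion F)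
    (x : EtCoh.H (Spec (CommRingCat.of k)) F q) (hx : ∃ m : ℕ, p ^ m • x = 0) : x = 0 := by
  refine eq_zero_of_torsion p q hq (fun C hC y hy => ?_) F hF x hx
  obtain ⟨M, _, _, _, _, _, hgen⟩ := exists_gen C hC
  obtain ⟨P⟩ := (Sylow.nonempty : Nonempty (Sylow p (M ≃ₐ[k] M)))
  let L := IntermediateField.fixedField (P : Subgroup (M ≃ₐ[k] M))
  have hdeg : ¬ p ∣ Module.finrank k L := by
    rw [IntermediateField.finrank_eq_fixingSubgroup_index, IntermediateField.fixingSubgroup_fixedField]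
    exact P.not_dvd_index
  obtain ⟨m, hm⟩ := P.2.exists_card_eq
  have hLM : Module.finrank L M = p ^ m := by rw [IntermediateField.finrank_fixedField_eq_card, hm]
  obtain ⟨hgen', _⟩ := Gen.pull L M C hgen
  obtain ⟨a, ha⟩ := hy
  have h0 : EtCore.Hpull (mor k L) C q y = 0 :=
    eq_zero_of_gen M p hLM q (hz L) _ hgen' _ ⟨a, by rw [← map_nsmul, ha, map_zero]⟩
  exact eq_zero_of_coprime (finrank_nsmul_eq_zero k L C q y h0) ha
    (Nat.Coprime.pow_right a (Nat.Coprime.symm ((Nat.Prime.coprime_iff_not_dvd Fact.out).2 hdeg)))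

/-- Surjective norms give `cd_p ≤ 1`. -/
theorem cd_le_one_of_normSurj : ∀ (r : ℕ) (k : Type u) [Field k], (p : k) ≠ 0 → NormSurj k p →
    ∀ (F : EtCoh.Ab (Spec (CommRingCat.of k))), EtCoh.IsTorsion F →
      ∀ x : EtCoh.H (Spec (CommRingCat.of k)) F (r + 2), (∃ m : ℕ, p ^ m • x = 0) → x = 0 := by
  intro r
  induction r with
  | zero =>
    intro k _ hpk h F hF x hx
    exact eq_zero_of_zmod k p 2 two_pos (fun L _ _ _ _ => subsingleton_zmod_two' L p
      (fun h0 => hpk ((algebraMap k L).injective (by rw [map_natCast, h0, map_zero]))) (h.of_algebra L)) F hF x hx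
  | succ r ih =>
    intro k _ hpk h F hF x hx
    exact eq_zero_of_zmod k p _ (Nat.succ_pos _) (fun L _ _ _ _ => subsingleton_succ p (r + 2)
      (ih L (fun h0 => hpk ((algebraMap k L).injective (by rw [map_natCast, h0, map_zero]))) (h.of_algebra L)))
      F hF x hx

/-- `cd_p ≤ 1` kills the `p`-torsion of the higher cohomology of `𝔾ₘ`. -/
theorem Gm_eq_zero_of_cd (hpk : (p : k) ≠ 0) (q : ℕ) (hq : 0 < q)
    (h : ∀ (F : EtCoh.Ab (Spec (CommRingCat.of k))), EtCoh.IsTorsion F →
      ∀ x : EtCoh.H (Spec (CommRingCat.of k)) F q, (∃ m : ℕ, p ^ m • x = 0) → x = 0)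
    (x : EtCoh.H (Spec (CommRingCat.of k)) (EtCoh.Gm _) q) (hx : p • x = 0) : x = 0 := by
  obtain ⟨η, hη⟩ : x ∈ Set.range ⇑((EtCoh.HF (Spec (CommRingCat.of k)) q).map (EtCoh.muι _ p)) := by
    rw [Groth.Agent.S3244.result _ p hp.out.pos (invertibleOn_field k hpk) q hq]; exact hx
  have hk := Groth.Misc1.Kummer.nsmul_id_mu (X := Spec (CommRingCat.of k)) p
  rw [← hη, h _ (isTorsion_of_killed hp.out.pos hk) η ⟨1, by rw [pow_one]; exact nsmul_eq_zero_of_killed hk η⟩]
  exact map_zero _

end Groth.GaloisBrauer.FieldTrace
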