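import Groth.Agent.GaloisBrauer.FieldDevissage
import Groth.Agent.GaloisBrauer.FieldTower
import Groth.Agent.EtaleDeep.Cons.TorsionColimit
import Groth.Agent.FlatMor2.ColimCoh.Etale
import Groth.Agent.EtaleDeep.Cons.AbBridge

/-!
`p`-primary cohomology of torsion sheaves over a field, reduced to `ℤ/p`.
-/

set_option autoImplicit false

universe u

open CategoryTheory CategoryTheory.Limits CategoryTheory.Abelian AlgebraicGeometry Opposite

namespace Groth.GaloisBrauer.FieldTrace

variable {K : Type u} [Field K]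

theorem comp_nsmul_id {C : Type*} [Category C] [Abelian C] [HasExt.{u + 1} C] {A B : C} {q : ℕ}
    (x : Ext A B q) (d : ℕ) : Ext.comp x (Ext.mk₀ (d • 𝟙 B)) (add_zero q) = d • x := by
  rw [show Ext.mk₀ (d • 𝟙 B) = d • Ext.mk₀ (𝟙 B) from map_nsmul (Ext.addEquiv₀ (X := B) (Y := B)).symm _ _]
  refine (map_nsmul ((Ext.bilinearComp A B B q 0 q (add_zero q)) x) _ _).trans ?_
  exact congrArg (d • ·) (Ext.comp_mk₀_id x)

theorem nsmul_id_app (F : EtCoh.Ab (Spec (CommRingCat.of K))) (d : ℕ) (U : (Spec (CommRingCat.of K)).Etale)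
    (s : F.obj.obj (op U)) : (d • 𝟙 F : F ⟶ F).hom.app (op U) s = d • s := by
  induction d with
  | zero => simp [zero_nsmul]
  | succ d ih => rw [succ_nsmul, succ_nsmul, ← ih]; rfl

theorem nsmul_id_eq_zero (F : EtCoh.Ab (Spec (CommRingCat.of K))) (d : ℕ)
    (h : ∀ (U : (Spec (CommRingCat.of K)).Etale) (s : F.obj.obj (op U)), d • s = 0) : d • 𝟙 F = 0 := by
  refine ObjectProperty.hom_ext _ (NatTrans.ext (funext fun U => ?_))
  ext s
  exact (nsmul_id_app F d U.unop s).trans (h U.unop s)

/-- Two finite separable extensions have a common one. -/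
theorem exists_common (M N : Type u) [Field M] [Algebra K M] [FiniteDimensional K M] [Algebra.IsSeparable K M]
    [Field N] [Algebra K N] [FiniteDimensional K N] [Algebra.IsSeparable K N] :
    ∃ (N' : Type u) (_ : Field N') (_ : Algebra K N') (_ : FiniteDimensional K N') (_ : Algebra.IsSeparable K N'),
      Nonempty (obj K N' ⟶ obj K M) ∧ Nonempty (obj K N' ⟶ obj K N) := by
  let P := prodWith (mor K M) (mor_etale K M)
  obtain ⟨z, -, -⟩ := Scheme.Pullback.exists_preimage_pullback (f := mor K N) (g := mor K M)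
    (default : PrimeSpectrum N) (default : PrimeSpectrum M) (Subsingleton.elim (α := PrimeSpectrum K) _ _)
  obtain ⟨N', i1, i2, i3, i4, g, -, -⟩ := exists_point_hom K (P.P.obj (obj K N)) z
  exact ⟨N', i1, i2, i3, i4, ⟨g ≫ P.q _⟩, ⟨g ≫ P.p.app _⟩⟩

/-- Sheaves generated at `M` are killed by the number of sections there. -/
theorem card_nsmul_eq_zero_of_gen {F : EtCoh.Ab (Spec (CommRingCat.of K))} {M : Type u} [Field M] [Algebra K M]
    [FiniteDimensional K M] [Algebra.IsSeparable K M] (hgen : Gen F M) :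
    Nat.card (F.obj.obj (op (obj K M))) • 𝟙 F = 0 := by
  refine nsmul_id_eq_zero F _ fun U s => ext_points F _ 0 fun N _ _ _ _ g => ?_
  obtain ⟨N', _, _, _, _, ⟨a⟩, ⟨b⟩⟩ := exists_common (K := K) M N
  obtain ⟨t, ht⟩ := hgen N' a (F.obj.map (b ≫ g).op s)
  refine map_injective F b (default : PrimeSpectrum N') ?_
  rw [map_zero, map_zero, map_nsmul, map_nsmul, ← ConcreteCategory.comp_apply, ← Functor.map_comp, ← op_comp,
    ← ht, ← map_nsmul, card_nsmul_eq_zero', map_zero]

/-- Dévissage for sheaves trivialised by a Galois extension of `p`-power degree. -/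
theorem eq_zero_of_gen (M : Type u) [Field M] [Algebra K M] [FiniteDimensional K M] [IsGalois K M]
    (p : ℕ) [Fact p.Prime] {m : ℕ} (hdeg : Module.finrank K M = p ^ m) (q : ℕ)
    (hz : Subsingleton (EtCoh.H (Spec (CommRingCat.of K)) (EtCoh.const _ (ZMod p)) q))
    (F : EtCoh.Ab (Spec (CommRingCat.of K))) (hgen : Gen F M) [Finite (F.obj.obj (op (obj K M)))]
    (x : EtCoh.H (Spec (CommRingCat.of K)) F q) (hx : ∃ a : ℕ, p ^ a • x = 0) : x = 0 := by
  induction h : Nat.card (F.obj.obj (op (obj K M))) using Nat.strong_induction_on generalizing F with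
  | _ N ih =>
    by_cases hdvd : p ∣ Nat.card (F.obj.obj (op (obj K M)))
    · obtain ⟨e, he, he0⟩ := exists_torsion_global p hdeg hdvd
      haveI := mono_zmodMap e he he0
      let ι := zmodMap e he
      have hS : (ShortComplex.mk ι (cokernel.π ι) (cokernel.condition _)).ShortExact :=
        Groth.CohFin.cokerSeq_shortExact' ι
      have hsurj := hgen.surjective_app (cokernel.π ι)
      haveI : Finite ((cokernel ι).obj.obj (op (obj K M))) := Finite.of_surjective _ hsurj
      have hlt : Nat.card ((cokernel ι).obj.obj (op (obj K M))) < N := by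
        rw [← h]
        letI := Fintype.ofFinite (F.obj.obj (op (obj K M)))
        letI := Fintype.ofFinite ((cokernel ι).obj.obj (op (obj K M)))
        rw [Nat.card_eq_fintype_card, Nat.card_eq_fintype_card]
        refine Fintype.card_lt_of_surjective_not_injective _ hsurj fun hinj => he0 ?_
        refine map_top_injective F (toTop (obj K M)) (default : PrimeSpectrum M) ?_
        refine hinj ?_
        have hc : (ι ≫ cokernel.π ι).hom.app (op (obj K M)) (constSec _ (1 : ZMod p)) =
            (0 : _ ⟶ cokernel ι).hom.app (op (obj K M)) (constSec _ (1 : ZMod p)) := by rw [cokernel.condition]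
        have h1 : ι.hom.app (op (obj K M)) (constSec _ (1 : ZMod p)) = F.obj.map (toTop (obj K M)).op e := by
          rw [zmodMap_constSec]
          refine congrArg _ ?_
          have h1' := ZMod.lift_coe p ⟨zmultiplesHom _ e, show ((p : ℤ) • e = 0) by rw [natCast_zsmul]; exact he⟩ 1
          rw [Int.cast_one] at h1'
          exact h1'.trans (one_zsmul e)
        rw [map_zero, map_zero, ← h1]
        exact hc
      have hy : Ext.comp x (Ext.mk₀ (cokernel.π ι)) (add_zero q) = 0 :=
        ih _ hlt (cokernel ι) (hgen.of_epi (cokernel.π ι)) _ (by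
          obtain ⟨a, ha⟩ := hx
          refine ⟨a, ?_⟩
          rw [← comp_nsmul_id, Ext.comp_assoc_of_third_deg_zero, Ext.mk₀_comp_mk₀,
            Preadditive.comp_nsmul, Category.comp_id]
          have hπ : (p ^ a • cokernel.π ι) = (p ^ a • 𝟙 F) ≫ cokernel.π ι := by
            rw [Preadditive.nsmul_comp, Category.id_comp]
          rw [hπ, ← Ext.mk₀_comp_mk₀, ← Ext.comp_assoc_of_third_deg_zero, comp_nsmul_id, ha, Ext.zero_comp]) rfl
      obtain ⟨c, hc⟩ := Ext.covariant_sequence_exact₂ _ hS x hy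
      rw [← hc, @Subsingleton.elim _ hz c 0, Ext.zero_comp]
    · obtain ⟨a, ha⟩ := hx
      have hk : Nat.card (F.obj.obj (op (obj K M))) • x = 0 := by
        rw [← comp_nsmul_id, card_nsmul_eq_zero_of_gen hgen, Ext.mk₀_zero, Ext.comp_zero]
      have hco : Nat.Coprime (Nat.card (F.obj.obj (op (obj K M)))) (p ^ a) :=
        Nat.Coprime.pow_right a (Nat.Coprime.symm ((Nat.Prime.coprime_iff_not_dvd Fact.out).2 hdvd))
      exact AddMonoid.addOrderOf_eq_one_iff.1 (Nat.eq_one_of_dvd_coprimes hco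
        (addOrderOf_dvd_of_nsmul_eq_zero hk) (addOrderOf_dvd_of_nsmul_eq_zero ha))

set_option backward.isDefEq.respectTransparency.types false in
/-- A sheaf with finite stalk is generated at a finite Galois extension. -/
theorem exists_gen (C : EtCoh.Ab (Spec (CommRingCat.of K)))
    (hfin : ∀ (Ω : Type u) [Field Ω] [IsSepClosed Ω] (ξ : Spec (CommRingCat.of Ω) ⟶ Spec (CommRingCat.of K)),
      Finite ((EtCoh.stalk ξ).obj C)) :
    ∃ (M : Type u) (_ : Field M) (_ : Algebra K M) (_ : FiniteDimensional K M) (_ : IsGalois K M),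
      Finite (C.obj.obj (op (obj K M))) ∧ Gen C M := by
  let ξ : Spec (CommRingCat.of (SeparableClosure K)) ⟶ Spec (CommRingCat.of K) :=
    Spec.map (CommRingCat.ofHom (algebraMap K (SeparableClosure K)))
  haveI := hfin _ ξ
  let S := (EtCoh.stalk ξ).obj C
  have hinj : ∀ (N : Type u) [Field N] [Algebra K N] [FiniteDimensional K N] [Algebra.IsSeparable K N],
      ∃ f : C.obj.obj (op (obj K N)) → S, Function.Injective f := by
    intro N _ _ _ _
    let ι : N →ₐ[K] SeparableClosure K := IsSepClosed.lift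
    let t : (Scheme.pointSmallEtale ξ).fiber.obj (obj K N) :=
      Over.homMk (Spec.map (CommRingCat.ofHom ι.toRingHom)) (by
        show Spec.map _ ≫ Spec.map _ = Spec.map _
        rw [← Spec.map_comp, ← CommRingCat.ofHom_comp]
        exact congrArg (fun k => Spec.map (CommRingCat.ofHom k)) ι.comp_algebraMap)
    refine ⟨Groth.EtaleBase.germ ξ C (obj K N) t, (injective_iff_map_eq_zero _).2 fun s hs => ?_⟩
    obtain ⟨V, g, v, -, hv⟩ := (Groth.EtaleBase.germ_eq_zero_iff ξ C _ t s).1 hs
    exact map_injective C g (v.left.base (default : PrimeSpectrum (SeparableClosure K))) (hv.trans (map_zero _).symm)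
  classical
  let P : ℕ → Prop := fun n => ∃ (N : Type u) (_ : Field N) (_ : Algebra K N) (_ : FiniteDimensional K N)
    (_ : Algebra.IsSeparable K N), Nat.card (C.obj.obj (op (obj K N))) = n
  have hb : ∀ n, P n → n ≤ Nat.card S := by
    rintro n ⟨N, _, _, _, _, rfl⟩
    obtain ⟨f, hf⟩ := hinj N
    exact Nat.card_le_card_of_injective f hf
  have hP0 : P (Nat.card (C.obj.obj (op (obj K K)))) := ⟨K, inferInstance, inferInstance, inferInstance, inferInstance, rfl⟩
  obtain ⟨N₀, _, _, _, _, hN₀⟩ := Nat.findGreatest_spec (P := P) (hb _ hP0) hP0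
  obtain ⟨M, _, _, _, _, ⟨a₀⟩⟩ := exists_galois K N₀
  obtain ⟨f, hf⟩ := hinj M
  haveI : Finite (C.obj.obj (op (obj K M))) := Finite.of_injective f hf
  refine ⟨M, inferInstance, inferInstance, inferInstance, inferInstance, inferInstance, ?_⟩
  intro N _ _ _ _ a
  have h1 := map_injective C a (default : PrimeSpectrum N)
  obtain ⟨g, hg⟩ := hinj N
  haveI : Finite (C.obj.obj (op (obj K N))) := Finite.of_injective g hg
  have h2 := Nat.card_le_card_of_injective _
    (map_injective C ((homEquiv K (L := N₀) (M := M)).symm a₀) (default : PrimeSpectrum M))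
  have h3 : Nat.card (C.obj.obj (op (obj K N))) ≤ Nat.card (C.obj.obj (op (obj K M))) := by
    rw [hN₀] at h2
    exact (Nat.le_findGreatest (hb _ ⟨N, inferInstance, inferInstance, inferInstance, inferInstance, rfl⟩)
      ⟨N, inferInstance, inferInstance, inferInstance, inferInstance, rfl⟩).trans h2
  exact (Nat.bijective_iff_injective_and_card _).2
    ⟨h1, le_antisymm (Nat.card_le_card_of_injective _ h1) h3⟩ |>.2

/-- Reduction of torsion sheaves to sheaves with finite stalks. -/
theorem eq_zero_of_torsion (p : ℕ) [Fact p.Prime] (q : ℕ) (hq : 0 < q)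
    (hC : ∀ (C : EtCoh.Ab (Spec (CommRingCat.of K))),
      (∀ (Ω : Type u) [Field Ω] [IsSepClosed Ω] (ξ : Spec (CommRingCat.of Ω) ⟶ Spec (CommRingCat.of K)),
        Finite ((EtCoh.stalk ξ).obj C)) →
      ∀ x : EtCoh.H (Spec (CommRingCat.of K)) C q, (∃ a : ℕ, p ^ a • x = 0) → x = 0)
    (F : EtCoh.Ab (Spec (CommRingCat.of K))) (hF : EtCoh.IsTorsion F)
    (x : EtCoh.H (Spec (CommRingCat.of K)) F q) (hx : ∃ a : ℕ, p ^ a • x = 0) : x = 0 := by
  obtain ⟨hc⟩ := Groth.EtaleDeep.Cons.nonempty_isColimit_presCocone hF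
  obtain ⟨P, y, hy⟩ := (Groth.FlatMor2.ColimCoh.Etale.extCommutes_H q _ hc).exists_rep x
  obtain ⟨N, hN, hN'⟩ := isOfFinAddOrder_iff_nsmul_eq_zero.1 (isOfFinAddOrder K _ q hq y)
  obtain ⟨a, b, hb, rfl⟩ := Nat.exists_eq_pow_mul_and_not_dvd hN.ne' p (Fact.out : p.Prime).ne_one
  have hby : b • y = 0 :=
    hC _ (fun Ω _ _ ξ => Groth.EtaleDeep.Cons.finite_stalk_of_isConstructibleAb
      (Groth.EtaleDeep.Cons.isConstructible_presDiag P) ξ) _ ⟨a, by rw [← mul_nsmul', hN']⟩
  obtain ⟨c, hc'⟩ := hx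
  have hbx : b • x = 0 := by
    rw [← hy]
    have e := map_nsmul ((Ext.mk₀ ((Groth.EtaleDeep.Cons.presCocone F).ι.app P)).postcomp _ (add_zero q)) b y
    exact e.symm.trans ((congrArg _ hby).trans (map_zero _))
  exact AddMonoid.addOrderOf_eq_one_iff.1 (Nat.eq_one_of_dvd_coprimes
    (Nat.Coprime.pow_right c (Nat.Coprime.symm ((Nat.Prime.coprime_iff_not_dvd Fact.out).2 hb)))
    (addOrderOf_dvd_of_nsmul_eq_zero hbx) (addOrderOf_dvd_of_nsmul_eq_zero hc'))

end Groth.GaloisBrauer.FieldTrace
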