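import Groth.Agent.GaloisBrauer.FieldPoints
import Groth.Agent.GaloisBrauer.FieldTorsion

/-!
For a cyclic extension `M/K` with group generated by `σ` and any abelian étale sheaf `F` on `Spec K`,
the four term exact sequence `0 → F → f_* f^* F → f_* f^* F → F → 0` (unit, `σ - 1`, trace).
-/

set_option autoImplicit false
set_option backward.isDefEq.respectTransparency.types false

universe u

open CategoryTheory CategoryTheory.Limits CategoryTheory.Abelian AlgebraicGeometry Opposite

namespace Groth.GaloisBrauer.FieldTrace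

variable {K : Type u} [Field K] (M : Type u) [Field M] [Algebra K M] [FiniteDimensional K M]
  [Algebra.IsSeparable K M]

/-- An endomorphism of the spectrum from an automorphism. -/
noncomputable def galHom (σ : M ≃ₐ[K] M) : obj K M ⟶ obj K M :=
  (homEquiv K (L := M) (M := M)).symm σ.toAlgHom

theorem galHom_mul (σ τ : M ≃ₐ[K] M) : galHom M (σ * τ) = galHom M σ ≫ galHom M τ := by
  apply MorphismProperty.Over.Hom.ext
  show Spec.map _ = Spec.map _ ≫ Spec.map _
  rw [← Spec.map_comp]
  rfl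

theorem galHom_one : galHom (K := K) M 1 = 𝟙 _ := by
  apply MorphismProperty.Over.Hom.ext
  show Spec.map _ = 𝟙 _
  rw [← Spec.map_id]
  rfl

theorem galHom_bijective : Function.Bijective (galHom (K := K) M) := by
  refine ⟨fun σ τ h => AlgEquiv.ext fun x => ?_, fun g => ⟨AlgEquiv.ofBijective (homEquiv K g)
    (homEquiv K g).bijective, ?_⟩⟩
  · exact DFunLike.congr_fun ((homEquiv K (L := M) (M := M)).symm.injective h) x
  · exact (homEquiv K (L := M) (M := M)).symm_apply_apply g

variable {N : Type u} [Field N] [Algebra K N] [FiniteDimensional K N] [Algebra.IsSeparable K N]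

theorem hom_left_cancel {N' : Type u} [Field N'] [Algebra K N'] [FiniteDimensional K N']
    [Algebra.IsSeparable K N'] (b : obj K N' ⟶ obj K N) {a a' : obj K N ⟶ obj K M}
    (h : b ≫ a = b ≫ a') : a = a' := by
  have hi : Spec.preimage a.left ≫ Spec.preimage b.left = Spec.preimage a'.left ≫ Spec.preimage b.left := by
    refine Spec.map_injective ?_
    rw [Spec.map_comp, Spec.map_comp, Spec.map_preimage, Spec.map_preimage, Spec.map_preimage]
    exact congrArg (fun k => k.left) h
  have h2 : Spec.preimage a.left = Spec.preimage a'.left := by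
    ext x
    exact (Spec.preimage b.left).hom.injective
      (DFunLike.congr_fun (congrArg CommRingCat.Hom.hom hi) x)
  apply MorphismProperty.Over.Hom.ext
  rw [← Spec.map_preimage a.left, ← Spec.map_preimage a'.left, h2]

/-- The graph of a map to `obj M`. -/
noncomputable def graphHom (a : obj K N ⟶ obj K M) :
    obj K N ⟶ (prodWith (mor K M) (mor_etale K M)).P.obj (obj K N) :=
  (prodWith (mor K M) (mor_etale K M)).lift (𝟙 _) a

theorem graphHom_p (a : obj K N ⟶ obj K M) :
    graphHom M a ≫ (prodWith (mor K M) (mor_etale K M)).p.app (obj K N) = 𝟙 _ :=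
  (prodWith (mor K M) (mor_etale K M)).lift_p _ _

theorem graphHom_q (a : obj K N ⟶ obj K M) :
    graphHom M a ≫ (prodWith (mor K M) (mor_etale K M)).q (obj K N) = a :=
  (prodWith (mor K M) (mor_etale K M)).lift_q _ _

theorem graphHom_mapSnd (a : obj K N ⟶ obj K M) (t : obj K M ⟶ obj K M) :
    graphHom M a ≫ (prodWith (mor K M) (mor_etale K M)).mapSnd (prodWith (mor K M) (mor_etale K M)) t _ =
      graphHom M (a ≫ t) := by
  refine (prodWith (mor K M) (mor_etale K M)).hom_ext _ _ ?_ ?_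
  · rw [Category.assoc, SiteTrace.ProdWith.mapSnd_p, graphHom_p, graphHom_p]
  · rw [Category.assoc, SiteTrace.ProdWith.mapSnd_q, ← Category.assoc, graphHom_q, graphHom_q]

variable [IsGalois K M]

/-- Maps from a field point to the Galois object are translates of one. -/
theorem exists_galHom (a₀ a : obj K N ⟶ obj K M) : ∃ σ : M ≃ₐ[K] M, a = a₀ ≫ galHom M σ := by
  obtain ⟨τ, hτ⟩ := exists_auto_point K N a₀.left a.left
    ((MorphismProperty.Over.w a₀).trans (MorphismProperty.Over.w a).symm)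
  obtain ⟨σ, hσ⟩ := (galHom_bijective (K := K) M).2 τ.hom
  exact ⟨σ, MorphismProperty.Over.Hom.ext (by rw [hσ]; exact hτ)⟩

theorem galHom_cancel (a₀ : obj K N ⟶ obj K M) {σ τ : M ≃ₐ[K] M}
    (h : a₀ ≫ galHom M σ = a₀ ≫ galHom M τ) : σ = τ :=
  (galHom_bijective (K := K) M).1 (hom_left_cancel (N := M) M a₀ h)

/-- Every point of `N × M` lies on a graph, for `N` over `M`. -/
theorem exists_graph (a₀ : obj K N ⟶ obj K M) {N' : Type u} [Field N'] [Algebra K N'] [FiniteDimensional K N']
    [Algebra.IsSeparable K N'] (g : obj K N' ⟶ (prodWith (mor K M) (mor_etale K M)).P.obj (obj K N)) :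
    ∃ a : obj K N ⟶ obj K M, g = (g ≫ (prodWith (mor K M) (mor_etale K M)).p.app (obj K N)) ≫ graphHom M a := by
  obtain ⟨σ, hσ⟩ := exists_galHom M ((g ≫ (prodWith (mor K M) (mor_etale K M)).p.app (obj K N)) ≫ a₀)
    (g ≫ (prodWith (mor K M) (mor_etale K M)).q (obj K N))
  refine ⟨a₀ ≫ galHom M σ, (prodWith (mor K M) (mor_etale K M)).hom_ext _ _ ?_ ?_⟩
  · exact ((Category.assoc _ _ _).trans ((congrArg (_ ≫ ·) (graphHom_p M _)).trans (Category.comp_id _))).symm
  · exact hσ.trans ((Category.assoc _ _ _).trans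
      ((congrArg (_ ≫ ·) (graphHom_q M _)).symm.trans (Category.assoc _ _ _).symm))

variable (F : EtCoh.Ab (Spec (CommRingCat.of K)))

theorem map_map {U V W : (Spec (CommRingCat.of K)).Etale} (g : V ⟶ U) (h : W ⟶ V) (x : F.obj.obj (op U)) :
    F.obj.map h.op (F.obj.map g.op x) = F.obj.map (h ≫ g).op x := by
  rw [op_comp, Functor.map_comp, ConcreteCategory.comp_apply]

theorem map_id' {U : (Spec (CommRingCat.of K)).Etale} (x : F.obj.obj (op U)) : F.obj.map (𝟙 U).op x = x := by
  rw [op_id, CategoryTheory.Functor.map_id]; rfl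

theorem ext_graph (a₀ : obj K N ⟶ obj K M)
    (x y : F.obj.obj (op ((prodWith (mor K M) (mor_etale K M)).P.obj (obj K N))))
    (h : ∀ a : obj K N ⟶ obj K M, F.obj.map (graphHom M a).op x = F.obj.map (graphHom M a).op y) : x = y := by
  refine ext_points F x y fun N' _ _ _ _ g => ?_
  obtain ⟨a, ha⟩ := exists_graph M a₀ g
  rw [ha, op_comp, Functor.map_comp, ConcreteCategory.comp_apply, ConcreteCategory.comp_apply, h]

/-- Sections over `N × M` with prescribed values on the graphs. -/
theorem exists_values (a₀ : obj K N ⟶ obj K M) (v : (obj K N ⟶ obj K M) → F.obj.obj (op (obj K N))) :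
    ∃ x : F.obj.obj (op ((prodWith (mor K M) (mor_etale K M)).P.obj (obj K N))),
      ∀ a, F.obj.map (graphHom M a).op x = v a := by
  let P := prodWith (mor K M) (mor_etale K M)
  let R : Sieve (P.P.obj (obj K N)) :=
    { arrows := fun Z h => ∃ a, h = (h ≫ P.p.app _) ≫ graphHom M a
      downward_closed := fun {Z Z' h} ⟨a, ha⟩ k => ⟨a, by
        rw [Category.assoc, Category.assoc]
        exact congrArg (k ≫ ·) (ha.trans (Category.assoc _ _ _))⟩ }
  have hR : R ∈ (Spec (CommRingCat.of K)).smallEtaleTopology _ := mem_topology_of_points R fun N' _ _ _ _ g =>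
    ⟨N', inferInstance, inferInstance, inferInstance, inferInstance, 𝟙 _, by
      rw [Category.id_comp]; exact exists_graph M a₀ g⟩
  have huniq : ∀ {Z : (Spec (CommRingCat.of K)).Etale} (h : Z ⟶ P.P.obj (obj K N)) (a a' : obj K N ⟶ obj K M),
      h = (h ≫ P.p.app _) ≫ graphHom M a → h = (h ≫ P.p.app _) ≫ graphHom M a' →
      F.obj.map (h ≫ P.p.app _).op (v a) = F.obj.map (h ≫ P.p.app _).op (v a') := by
    intro Z h a a' ha ha'
    refine ext_points F _ _ fun N' _ _ _ _ g => ?_
    have e := congrArg (fun k => g ≫ k ≫ P.q _) (ha.symm.trans ha')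
    simp only [Category.assoc] at e
    rw [graphHom_q, graphHom_q] at e
    have haa : a = a' := hom_left_cancel M (g ≫ h ≫ P.p.app _) (by simpa only [Category.assoc] using e)
    exact congrArg (fun b => F.obj.map g.op (F.obj.map (h ≫ P.p.app _).op (v b))) haa
  let fam : Presieve.FamilyOfElements (F.obj ⋙ CategoryTheory.forget AddCommGrpCat.{u + 1}) R.arrows :=
    fun Z h hh => F.obj.map (h ≫ P.p.app _).op (v hh.choose)
  have hfam : fam.Compatible := by
    intro Y₁ Y₂ Z g₁ g₂ f₁ f₂ h₁ h₂ e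
    show F.obj.map g₁.op (F.obj.map (f₁ ≫ P.p.app _).op (v h₁.choose)) =
      F.obj.map g₂.op (F.obj.map (f₂ ≫ P.p.app _).op (v h₂.choose))
    rw [← ConcreteCategory.comp_apply, ← ConcreteCategory.comp_apply, ← Functor.map_comp, ← Functor.map_comp,
      ← op_comp, ← op_comp, ← Category.assoc, ← Category.assoc, ← e]
    refine huniq (g₁ ≫ f₁) _ _ ?_ ?_
    · simpa only [Category.assoc] using congrArg (g₁ ≫ ·) h₁.choose_spec
    · rw [e]; simpa only [Category.assoc] using congrArg (g₂ ≫ ·) h₂.choose_spec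
  refine ⟨(isSheaf_types F R hR).amalgamate fam hfam, fun a => ?_⟩
  have ha : R (graphHom M a) := ⟨a, by rw [graphHom_p, Category.id_comp]⟩
  refine ((isSheaf_types F R hR).valid_glue hfam (graphHom M a) ha).trans ?_
  show F.obj.map (graphHom M a ≫ P.p.app _).op (v ha.choose) = v a
  refine (huniq (graphHom M a) ha.choose a ha.choose_spec (by rw [graphHom_p, Category.id_comp])).trans ?_
  refine (congrArg (fun k => F.obj.map k.op (v a)) (graphHom_p M a)).trans ?_
  exact map_id' F _

section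

variable [Etale (mor K M)] [EtShriek.JCont (mor K M)]

/-- The direct image of the restriction. -/
noncomputable abbrev pushRestr : EtCoh.Ab (Spec (CommRingCat.of K)) :=
  (EtCoh.push (mor K M)).obj ((EtShriek.restrAlong (mor K M)).obj F)

/-- The action of an automorphism on `f_* f^* F`. -/
noncomputable def galAct (σ : M ≃ₐ[K] M) : pushRestr M F ⟶ pushRestr M F :=
  ⟨{ app := fun W => F.obj.map
        ((prodWith (mor K M) (mor_etale K M)).mapSnd (prodWith (mor K M) (mor_etale K M)) (galHom M σ) W.unop).op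
     naturality := fun V W g => by
        show F.obj.map _ ≫ F.obj.map _ = F.obj.map _ ≫ F.obj.map _
        rw [← Functor.map_comp, ← Functor.map_comp]
        refine congrArg F.obj.map (Quiver.Hom.unop_inj ?_)
        exact ((prodWith (mor K M) (mor_etale K M)).mapSnd_nat (prodWith (mor K M) (mor_etale K M))
          (galHom M σ) g.unop).symm }⟩

/-- The unit. -/
noncomputable abbrev cycUnit : F ⟶ pushRestr M F := (Groth.EtaleBase.restrPushAdj (mor K M)).unit.app F

/-- The trace. -/
noncomputable def cycTrace : pushRestr M F ⟶ F :=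
  haveI : Fintype (obj K M ⟶ obj K M) := Fintype.ofEquiv _ (homEquiv K (L := M) (M := M)).symm
  ⟨SiteTrace.traceHom (prodWith (mor K M) (mor_etale K M)) (prodWith (mor K M) (mor_etale K M)) _ F
    (hcov K M) (local_auto K (M := M))⟩

variable {M F}

theorem map_p_cycTrace (W : (Spec (CommRingCat.of K)).Etale)
    (x : F.obj.obj (op ((prodWith (mor K M) (mor_etale K M)).P.obj W))) :
    F.obj.map ((prodWith (mor K M) (mor_etale K M)).p.app W).op ((cycTrace M F).hom.app (op W) x) =
      ∑ σ : M ≃ₐ[K] M, F.obj.map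
        ((prodWith (mor K M) (mor_etale K M)).mapSnd (prodWith (mor K M) (mor_etale K M)) (galHom M σ) W).op x := by
  letI : Fintype (obj K M ⟶ obj K M) := Fintype.ofEquiv _ (homEquiv K (L := M) (M := M)).symm
  refine (SiteTrace.map_p_trace _ _ _ F (hcov K M) (local_auto K (M := M)) W x).trans ?_
  exact (Fintype.sum_equiv (Equiv.ofBijective _ (galHom_bijective (K := K) M)) _ _ fun σ => rfl).symm

theorem galAct_graph (σ : M ≃ₐ[K] M) (a : obj K N ⟶ obj K M)
    (x : (pushRestr M F).obj.obj (op (obj K N))) :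
    F.obj.map (graphHom M a).op ((galAct M F σ).hom.app (op (obj K N)) x) =
      F.obj.map (graphHom M (a ≫ galHom M σ)).op x := by
  exact (map_map F _ _ x).trans (congrArg (fun k => F.obj.map k.op x) (graphHom_mapSnd M a (galHom M σ)))

theorem cycUnit_graph (a : obj K N ⟶ obj K M) (y : F.obj.obj (op (obj K N))) :
    F.obj.map (graphHom M a).op ((cycUnit M F).hom.app (op (obj K N)) y) = y := by
  exact (map_map F ((prodWith (mor K M) (mor_etale K M)).p.app (obj K N)) (graphHom M a) y).trans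
    ((congrArg (fun k => F.obj.map k.op y) (graphHom_p M a)).trans (map_id' F y))

theorem cycTrace_graph (a : obj K N ⟶ obj K M) (x : (pushRestr M F).obj.obj (op (obj K N))) :
    (cycTrace M F).hom.app (op (obj K N)) x =
      ∑ σ : M ≃ₐ[K] M, F.obj.map (graphHom M (a ≫ galHom M σ)).op x := by
  have h := congrArg (F.obj.map (graphHom M a).op) (map_p_cycTrace (obj K N) x)
  refine ((map_map F _ _ _).trans ((congrArg (fun k => F.obj.map k.op _) (graphHom_p M a)).trans
    (map_id' F _))).symm.trans (h.trans ?_)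
  refine (map_sum _ _ _).trans (Finset.sum_congr rfl fun σ _ => ?_)
  exact (map_map F _ _ _).trans (congrArg (fun k => F.obj.map k.op x) (graphHom_mapSnd M a (galHom M σ)))

variable {σ₀ : M ≃ₐ[K] M} (hσ : ∀ τ : M ≃ₐ[K] M, τ ∈ Subgroup.zpowers σ₀)

include hσ in
theorem exists_pow (a₀ a : obj K N ⟶ obj K M) :
    ∃ i < orderOf σ₀, a = a₀ ≫ galHom M (σ₀ ^ i) := by
  obtain ⟨σ, rfl⟩ := exists_galHom M a₀ a
  obtain ⟨i, hi⟩ := (mem_powers_iff_mem_zpowers (x := σ₀)).2 (hσ σ)
  exact ⟨i % orderOf σ₀, Nat.mod_lt _ (orderOf_pos σ₀), by rw [pow_mod_orderOf, ← hi]⟩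

include hσ in
theorem sum_eq_sum_range {A : Type*} [AddCommMonoid A] (f : (M ≃ₐ[K] M) → A) :
    ∑ σ, f σ = ∑ i ∈ Finset.range (orderOf σ₀), f (σ₀ ^ i) := by
  classical
  refine (Finset.sum_bij (fun i _ => σ₀ ^ i) (fun i _ => Finset.mem_univ _) ?_ ?_ (fun i _ => rfl)).symm
  · intro i hi j hj h
    exact pow_injOn_Iio_orderOf (Finset.mem_range.1 hi) (Finset.mem_range.1 hj) h
  · intro σ _
    obtain ⟨i, hi⟩ := (mem_powers_iff_mem_zpowers (x := σ₀)).2 (hσ σ)
    exact ⟨i % orderOf σ₀, Finset.mem_range.2 (Nat.mod_lt _ (orderOf_pos σ₀)), by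
      rw [pow_mod_orderOf]; exact hi⟩

include hσ in
theorem exists_unit_of_fixed (a₀ : obj K N ⟶ obj K M) (x : (pushRestr M F).obj.obj (op (obj K N)))
    (hx : (galAct M F σ₀ - 𝟙 _).hom.app (op (obj K N)) x = 0) :
    ∃ y, (cycUnit M F).hom.app (op (obj K N)) y = x := by
  have hx' : (galAct M F σ₀).hom.app (op (obj K N)) x = x := sub_eq_zero.1 hx
  refine ⟨F.obj.map (graphHom M a₀).op x, ext_graph M F a₀ _ _ fun a => ?_⟩
  rw [cycUnit_graph]
  obtain ⟨i, -, rfl⟩ := exists_pow hσ a₀ a
  induction i with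
  | zero => rw [pow_zero, galHom_one, Category.comp_id]
  | succ i ih =>
    refine ih.trans ?_
    rw [pow_succ, galHom_mul, ← Category.assoc]
    exact (congrArg (F.obj.map (graphHom M (a₀ ≫ galHom M (σ₀ ^ i))).op) hx').symm.trans (galAct_graph _ _ _)

include hσ in
theorem exists_of_trace_eq_zero (a₀ : obj K N ⟶ obj K M) (x : (pushRestr M F).obj.obj (op (obj K N)))
    (hx : (cycTrace M F).hom.app (op (obj K N)) x = 0) :
    ∃ y, (galAct M F σ₀ - 𝟙 _).hom.app (op (obj K N)) y = x := by
  let v : ℕ → F.obj.obj (op (obj K N)) := fun i => F.obj.map (graphHom M (a₀ ≫ galHom M (σ₀ ^ i))).op x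
  have hsum : ∑ j ∈ Finset.range (orderOf σ₀), v j = 0 := by
    rw [← hx, cycTrace_graph a₀ x, sum_eq_sum_range hσ]
  choose idx hidx hidx' using exists_pow hσ a₀
  obtain ⟨y, hy⟩ := exists_values M F a₀ (fun a => ∑ j ∈ Finset.range (idx a), v j)
  have hval : ∀ i, F.obj.map (graphHom M (a₀ ≫ galHom M (σ₀ ^ i))).op y =
      ∑ j ∈ Finset.range (i % orderOf σ₀), v j := by
    intro i
    rw [hy]
    have := galHom_cancel M a₀ (hidx' (a₀ ≫ galHom M (σ₀ ^ i)))
    rw [pow_eq_pow_iff_modEq, Nat.ModEq, Nat.mod_eq_of_lt (hidx _)] at this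
    rw [this]
  refine ⟨y, ext_graph M F a₀ _ _ fun a => ?_⟩
  obtain ⟨i, hi, rfl⟩ := exists_pow hσ a₀ a
  refine (map_sub (F.obj.map (graphHom M (a₀ ≫ galHom M (σ₀ ^ i))).op).hom _ _).trans ?_
  refine (congrArg₂ (· - ·) ((galAct_graph σ₀ (a₀ ≫ galHom M (σ₀ ^ i)) y).trans ((congrArg
    (fun k => F.obj.map (graphHom M k).op y) (show (a₀ ≫ galHom M (σ₀ ^ i)) ≫ galHom M σ₀ =
      a₀ ≫ galHom M (σ₀ ^ (i + 1)) by rw [Category.assoc, ← galHom_mul, ← pow_succ])).trans (hval (i + 1))))
    (hval i)).trans ?_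
  show _ = v i
  rw [Nat.mod_eq_of_lt hi]
  rcases (Nat.succ_le_of_lt hi).lt_or_eq with hlt | heq
  · rw [Nat.mod_eq_of_lt hlt, Finset.sum_range_succ, add_sub_cancel_left]
  · have heq' : i + 1 = orderOf σ₀ := heq
    rw [heq', Nat.mod_self, Finset.range_zero, Finset.sum_empty, zero_sub, neg_eq_iff_add_eq_zero,
      ← Finset.sum_range_succ, heq', hsum]

theorem trace_surjective (a₀ : obj K N ⟶ obj K M) (z : F.obj.obj (op (obj K N))) :
    ∃ y, (cycTrace M F).hom.app (op (obj K N)) y = z := by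
  classical
  obtain ⟨y, hy⟩ := exists_values M F a₀ (fun a => if a = a₀ then z else 0)
  refine ⟨y, (cycTrace_graph a₀ y).trans ?_⟩
  rw [Finset.sum_eq_single (1 : M ≃ₐ[K] M)]
  · rw [hy, galHom_one, Category.comp_id, if_pos rfl]
  · intro σ _ hσ1
    rw [hy, if_neg]
    intro h
    exact hσ1 (galHom_cancel M a₀ (h.trans (by rw [galHom_one, Category.comp_id])))
  · intro h
    exact absurd (Finset.mem_univ _) h

theorem galAct_comp_trace (σ : M ≃ₐ[K] M) : galAct M F σ ≫ cycTrace M F = cycTrace M F := by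
  refine ObjectProperty.hom_ext _ (NatTrans.ext (funext fun W => ?_))
  ext x
  refine SiteTrace.map_p_injective (prodWith (mor K M) (mor_etale K M)) _ F (hcov K M) W.unop ?_
  refine (map_p_cycTrace W.unop _).trans (Eq.trans ?_ (map_p_cycTrace W.unop x).symm)
  refine Fintype.sum_equiv (Equiv.mulRight σ) _ _ fun τ => ?_
  refine (map_map F _ _ x).trans ?_
  refine congrArg (fun k : (prodWith (mor K M) (mor_etale K M)).P.obj W.unop ⟶
    (prodWith (mor K M) (mor_etale K M)).P.obj W.unop => F.obj.map k.op x) ?_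
  refine (prodWith (mor K M) (mor_etale K M)).hom_ext _ _ ?_ ?_
  · exact (Category.assoc _ _ _).trans ((congrArg (_ ≫ ·) (SiteTrace.ProdWith.mapSnd_p _ _ _ _)).trans
      ((SiteTrace.ProdWith.mapSnd_p _ _ _ _).trans (SiteTrace.ProdWith.mapSnd_p _ _ _ _).symm))
  · refine (Category.assoc _ _ _).trans ((congrArg (_ ≫ ·) (SiteTrace.ProdWith.mapSnd_q _ _ _ _)).trans
      ((Category.assoc _ _ _).symm.trans ((congrArg (· ≫ galHom M σ) (SiteTrace.ProdWith.mapSnd_q _ _ _ _)).trans
      ((Category.assoc _ _ _).trans ?_))))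
    exact (congrArg (_ ≫ ·) (galHom_mul M τ σ).symm).trans (SiteTrace.ProdWith.mapSnd_q _ _ _ _).symm

theorem cycUnit_comp_galAct (σ : M ≃ₐ[K] M) : cycUnit M F ≫ galAct M F σ = cycUnit M F := by
  refine ObjectProperty.hom_ext _ (NatTrans.ext (funext fun W => ?_))
  ext x
  exact (map_map F _ _ x).trans (congrArg (fun k : (prodWith (mor K M) (mor_etale K M)).P.obj W.unop ⟶ W.unop =>
    F.obj.map k.op x) (SiteTrace.ProdWith.mapSnd_p (prodWith (mor K M) (mor_etale K M))
      (prodWith (mor K M) (mor_etale K M)) (galHom M σ) W.unop))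

include hσ in
/-- The four term exact sequence, as two short exact sequences through the cokernel of the unit. -/
theorem exists_cokSeq :
    ∃ (j : cokernel (cycUnit M F) ⟶ pushRestr M F) (w₂ : j ≫ cycTrace M F = 0),
      cokernel.π (cycUnit M F) ≫ j = galAct M F σ₀ - 𝟙 _ ∧
      (ShortComplex.mk (cycUnit M F) (cokernel.π (cycUnit M F)) (cokernel.condition _)).ShortExact ∧
      (ShortComplex.mk j (cycTrace M F) w₂).ShortExact := by
  haveI hεm : Mono (cycUnit M F) := mono_of_points _ fun N' _ _ _ _ s hs => by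
    obtain ⟨N'', _, _, _, _, ⟨a⟩, ⟨b⟩⟩ := exists_common (K := K) M N'
    refine map_injective F b (default : PrimeSpectrum N'') ?_
    refine ((cycUnit_graph a (F.obj.map b.op s)).symm.trans ((congrArg (F.obj.map (graphHom M a).op)
      ((NatTrans.naturality_apply (cycUnit M F).hom b.op s).trans
        ((congrArg _ hs).trans (map_zero _)))).trans (map_zero _))).trans (map_zero _).symm
  let π := cokernel.π (cycUnit M F)
  let j : cokernel (cycUnit M F) ⟶ pushRestr M F := cokernel.desc (cycUnit M F) (galAct M F σ₀ - 𝟙 _)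
    (by rw [Preadditive.comp_sub, cycUnit_comp_galAct, Category.comp_id, sub_self])
  have hπj : π ≫ j = galAct M F σ₀ - 𝟙 _ := cokernel.π_desc _ _ _
  have w₂ : j ≫ cycTrace M F = 0 := by
    rw [← cancel_epi π, ← Category.assoc, hπj, Preadditive.sub_comp, galAct_comp_trace, Category.id_comp,
      sub_self, comp_zero]
  haveI : Mono j := mono_of_points _ fun N' _ _ _ _ z hz => by
    obtain ⟨N₁, _, _, _, _, b, y, hy⟩ := exists_lift_point π z
    obtain ⟨N₂, _, _, _, _, ⟨a⟩, ⟨c⟩⟩ := exists_common (K := K) M N₁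
    refine map_injective _ (c ≫ b) (default : PrimeSpectrum N₂) ?_
    rw [map_zero, op_comp, Functor.map_comp, ConcreteCategory.comp_apply, ← hy,
      ← NatTrans.naturality_apply π.hom c.op]
    obtain ⟨v, hv⟩ := exists_unit_of_fixed hσ a ((pushRestr M F).obj.map c.op y) (by
      rw [← hπj]
      show j.hom.app _ (π.hom.app _ _) = 0
      rw [NatTrans.naturality_apply π.hom c.op, hy, NatTrans.naturality_apply j.hom c.op,
        NatTrans.naturality_apply j.hom b.op, hz, map_zero, map_zero])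
    rw [← hv]
    show (cycUnit M F ≫ π).hom.app _ v = 0
    rw [cokernel.condition]
    rfl
  haveI : Epi (cycTrace M F) := epi_of_points _ fun N' _ _ _ _ z => by
    obtain ⟨N₂, i1, i2, i3, i4, ⟨a⟩, ⟨c⟩⟩ := exists_common (K := K) M N'
    obtain ⟨y, hy⟩ := trace_surjective a (F.obj.map c.op z)
    exact ⟨N₂, i1, i2, i3, i4, c, y, hy⟩
  haveI : Epi (kernel.lift (cycTrace M F) j w₂) := epi_of_points _ fun N' _ _ _ _ z => by
    obtain ⟨N₂, i1, i2, i3, i4, ⟨a⟩, ⟨c⟩⟩ := exists_common (K := K) M N'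
    let x := (kernel.ι (cycTrace M F)).hom.app (op (obj K N₂)) ((kernel (cycTrace M F)).obj.map c.op z)
    obtain ⟨y, hy⟩ := exists_of_trace_eq_zero hσ a x (by
      show (kernel.ι (cycTrace M F) ≫ cycTrace M F).hom.app _ _ = 0
      rw [kernel.condition]
      rfl)
    refine ⟨N₂, i1, i2, i3, i4, c, π.hom.app _ y, ?_⟩
    haveI : Mono ((sheafToPresheaf _ _).map (kernel.ι (cycTrace M F))) := inferInstance
    refine (AddCommGrpCat.mono_iff_injective ((kernel.ι (cycTrace M F)).hom.app (op (obj K N₂)))).1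
      ((NatTrans.mono_iff_mono_app _).1 this (op (obj K N₂))) ?_
    refine Eq.trans ?_ hy
    show (kernel.lift (cycTrace M F) j w₂ ≫ kernel.ι (cycTrace M F)).hom.app _ (π.hom.app _ y) =
      (galAct M F σ₀ - 𝟙 (pushRestr M F)).hom.app _ y
    rw [kernel.lift_ι, ← hπj]
    rfl
  refine ⟨j, w₂, hπj, Groth.CohFin.cokerSeq_shortExact' _,
    { exact := (ShortComplex.exact_iff_epi_kernel_lift (ShortComplex.mk j (cycTrace M F) w₂)).2 ‹_›
      mono_f := inferInstanceAs (Mono j)
      epi_g := inferInstanceAs (Epi (cycTrace M F)) }⟩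

include hσ in
/-- The four term exact sequence, as two short exact sequences. -/
theorem exists_sequences :
    ∃ (I : EtCoh.Ab (Spec (CommRingCat.of K))) (π : pushRestr M F ⟶ I) (j : I ⟶ pushRestr M F)
      (w₁ : cycUnit M F ≫ π = 0) (w₂ : j ≫ cycTrace M F = 0),
      (ShortComplex.mk (cycUnit M F) π w₁).ShortExact ∧ (ShortComplex.mk j (cycTrace M F) w₂).ShortExact := by
  obtain ⟨j, w₂, -, h₁, h₂⟩ := exists_cokSeq (F := F) hσ
  exact ⟨_, _, j, _, w₂, h₁, h₂⟩

end

end Groth.GaloisBrauer.FieldTrace
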