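import Groth.Agent.GaloisBrauer.FieldTraceProd
import Groth.Agent.EtaleBase.ExtZeroProps
import Groth.Agent.EtaleBase.InjCoh
import Groth.Agent.EtaleBase.ExtAdj
import Groth.Agent.EtaleBase.PushEpi

/-!
The trace of a finite separable field extension on étale cohomology: a class killed by the extension
is killed by its degree.
-/

set_option autoImplicit false

universe u

open CategoryTheory CategoryTheory.Limits CategoryTheory.Abelian AlgebraicGeometry Opposite

namespace Groth.GaloisBrauer.FieldTrace

variable (K : Type u) [Field K]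

set_option backward.isDefEq.respectTransparency.types false in
theorem hcov (M : Type u) [Field M] [Algebra K M] [FiniteDimensional K M] [Algebra.IsSeparable K M]
    (W : (Spec (CommRingCat.of K)).Etale) :
    Sieve.generate (Presieve.singleton ((prodWith (mor K M) (mor_etale K M)).p.app W)) ∈
      (Spec (CommRingCat.of K)).smallEtaleTopology W := by
  rw [Groth.EtaleBase.mem_topology_iff]
  intro x
  haveI : Surjective (mor K M) := ⟨fun y => ⟨default, Subsingleton.elim (α := PrimeSpectrum K) _ y⟩⟩
  haveI : Surjective (pullback.fst W.hom (mor K M)) := inferInstance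
  obtain ⟨v, hv⟩ := (pullback.fst W.hom (mor K M)).surjective x
  exact ⟨_, (prodWith (mor K M) (mor_etale K M)).p.app W, v,
    Sieve.le_generate _ _ _ (Presieve.singleton_self _), hv⟩

variable (L : Type u) [Field L] [Algebra K L] [FiniteDimensional K L] [Algebra.IsSeparable K L]

set_option backward.isDefEq.respectTransparency.types false in
/-- There is a trace `f_* f^{-1} → 𝟭` whose composite with the unit is the degree. -/
theorem exists_trace :
    ∃ t : EtCoh.pull (mor K L) ⋙ EtCoh.push (mor K L) ⟶ 𝟭 (EtCoh.Ab (Spec (CommRingCat.of K))),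
      ∀ F, (EtCoh.pullPushAdj (mor K L)).unit.app F ≫ t.app F = Module.finrank K L • 𝟙 F := by
  haveI := mor_etale K L
  haveI := Groth.EtaleBase.InjCoh.jCont (mor K L)
  obtain ⟨M, _, _, _, _, ⟨ι⟩⟩ := exists_galois K L
  letI : Fintype (obj K M ⟶ obj K L) := Fintype.ofEquiv _ (homEquiv K (L := L) (M := M)).symm
  let PA := prodWith (mor K L) (mor_etale K L)
  let PB := prodWith (mor K M) (mor_etale K M)
  let tr : EtShriek.restrAlong (mor K L) ⋙ EtCoh.push (mor K L) ⟶ 𝟭 _ :=
    { app := fun F => ⟨SiteTrace.traceHom PA PB _ F (hcov K M) (local_auto K (M := M))⟩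
      naturality := fun F G φ => by
        refine ObjectProperty.hom_ext _ (NatTrans.ext (funext fun W => ?_))
        ext s
        exact SiteTrace.trace_natural_sheaf PA PB _ F (hcov K M) (local_auto K (M := M)) φ W.unop s }
  refine ⟨Functor.whiskerRight (Groth.EtaleBase.pullRestrIso (mor K L)).hom _ ≫ tr, fun F => ?_⟩
  rw [NatTrans.comp_app, Functor.whiskerRight_app, ← Category.assoc,
    show (EtCoh.pullPushAdj (mor K L)).unit.app F ≫
      (EtCoh.push (mor K L)).map ((Groth.EtaleBase.pullRestrIso (mor K L)).hom.app F) =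
      (Groth.EtaleBase.restrPushAdj (mor K L)).unit.app F from
      Adjunction.unit_leftAdjointUniq_hom_app _ _ F]
  refine ObjectProperty.hom_ext _ (NatTrans.ext (funext fun W => ?_))
  ext s
  refine (SiteTrace.trace_map_p PA PB _ F (hcov K M) (local_auto K (M := M)) W.unop s).trans ?_
  rw [card_hom K ι]
  generalize Module.finrank K L = d
  induction d with
  | zero => simp [zero_nsmul]
  | succ d ih => rw [succ_nsmul, succ_nsmul, ih]; rfl

theorem push_exact (L : Type u) [Field L] [Algebra K L] [FiniteDimensional K L] :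
    PreservesFiniteLimits (EtCoh.push (mor K L)) ∧ PreservesFiniteColimits (EtCoh.push (mor K L)) := by
  haveI := mor_isFinite K L
  haveI : PreservesLimitsOfSize.{0, 0} (EtCoh.push (mor K L)) :=
    (EtCoh.pullPushAdj (mor K L)).rightAdjoint_preservesLimits
  exact ⟨PreservesLimitsOfSize.preservesFiniteLimits _,
    Groth.EtaleBase.push_preservesFiniteColimits (mor K L)⟩

/-- A class killed by a finite separable extension is killed by its degree. -/
theorem finrank_nsmul_eq_zero [PreservesFiniteLimits (EtCoh.pull (mor K L))]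
    (F : EtCoh.Ab (Spec (CommRingCat.of K))) (i : ℕ) (α : EtCoh.H (Spec (CommRingCat.of K)) F i)
    (hα : EtCore.Hpull (mor K L) F i α = 0) : Module.finrank K L • α = 0 := by
  obtain ⟨t, ht⟩ := exists_trace K L
  haveI := (push_exact K L).1
  haveI := (push_exact K L).2
  let f := mor K L
  let A := EtCoh.const (Spec (CommRingCat.of K)) ℤ
  have h0 : (α : Ext A F i).mapExactFunctor (EtCoh.pull f) = 0 := by
    refine (Groth.EtaleBase.InjCoh.precomp_iso_bijective (EtCore.pullConst f ℤ).symm _ i).1 ?_
    exact hα.trans (Ext.comp_zero _ _ _ _ _).symm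
  have h1 := Groth.EtaleBase.ExtAdj.mapExt_natTrans_id (EtCoh.pull f) (EtCoh.push f) t A i F α
  rw [h0, show (0 : Ext ((EtCoh.pull f).obj A) ((EtCoh.pull f).obj F) i).mapExactFunctor (EtCoh.push f) = 0
    from map_zero ((EtCoh.push f).mapExtAddHom _ _ i), Ext.zero_comp] at h1
  have h2 : (Ext.mk₀ ((EtCoh.pullPushAdj f).unit.app A ≫ t.app A)).comp α (zero_add i) = 0 := by
    rw [← Ext.mk₀_comp_mk₀_assoc]
    exact (congrArg (fun z => Ext.comp (Ext.mk₀ _) z (zero_add i)) h1.symm).trans (Ext.comp_zero _ _ _ _ _)
  rw [ht A] at h2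
  have e : (Ext.mk₀ (Module.finrank K L • 𝟙 A)).comp α (zero_add i) = Module.finrank K L • α := by
    rw [show Ext.mk₀ (Module.finrank K L • 𝟙 A) = Module.finrank K L • Ext.mk₀ (𝟙 A) from
      map_nsmul (Ext.addEquiv₀ (X := A) (Y := A)).symm _ _]
    refine (map_nsmul (((Ext.bilinearComp A A F 0 i i (zero_add i)).flip) α) _ _).trans ?_
    exact congrArg (Module.finrank K L • ·) (Ext.mk₀_id_comp α)
  exact e.symm.trans h2

end Groth.GaloisBrauer.FieldTrace
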