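import Mathlib

/-!
A locally constant cocycle of the absolute Galois group comes from a finite Galois level.
-/

set_option autoImplicit false

universe u v w

namespace Groth.GaloisBrauer.LocConst

variable {K : Type u} {L : Type v} [Field K] [Field L] [Algebra K L] [IsGalois K L]

/-- A finite Galois subextension containing a finite set, on whose fixing group a locally constant map
is constant. -/
theorem exists_level {M : Type w} (a : (L ≃ₐ[K] L) → M) (hlc : IsLocallyConstant a) (T : Set L)
    (hT : T.Finite) :
    ∃ E : IntermediateField K L, FiniteDimensional K E ∧ IsGalois K E ∧ T ⊆ E ∧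
      ∀ σ ∈ E.fixingSubgroup, a σ = a 1 := by
  have hnhds : {σ | a σ = a 1} ∈ nhds (1 : L ≃ₐ[K] L) := (hlc.isOpen_fiber (a 1)).mem_nhds rfl
  obtain ⟨E₀, hE₀, hsub⟩ := (krullTopology_mem_nhds_one_iff K L _).1 hnhds
  have := hT.to_subtype
  have : FiniteDimensional K (IntermediateField.adjoin K T) :=
    IntermediateField.finiteDimensional_adjoin fun x _ => Algebra.IsIntegral.isIntegral x
  let E₁ : IntermediateField K L := E₀ ⊔ IntermediateField.adjoin K T
  have : FiniteDimensional K E₁ := IntermediateField.finiteDimensional_sup _ _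
  refine ⟨IntermediateField.normalClosure K E₁ L, normalClosure.is_finiteDimensional K E₁ L,
    IsGalois.normalClosure K E₁ L, fun x hx => ?_, fun σ hσ => ?_⟩
  · exact IntermediateField.le_normalClosure E₁ ((le_sup_right : _ ≤ E₁) (IntermediateField.subset_adjoin K T hx))
  · exact hsub (IntermediateField.fixingSubgroup_antitone
      ((le_sup_left : E₀ ≤ E₁).trans (IntermediateField.le_normalClosure E₁)) hσ)

/-- Restriction to a normal subextension is surjective, and its fibres are cosets of the fixing group. -/
theorem restrictNormal_surjective (E : IntermediateField K L) [Normal K E] :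
    Function.Surjective (AlgEquiv.restrictNormalHom (F := K) (K₁ := L) E) :=
  AlgEquiv.restrictNormalHom_surjective L

theorem inv_mul_mem_fixing (E : IntermediateField K L) [Normal K E] {σ τ : L ≃ₐ[K] L}
    (h : AlgEquiv.restrictNormalHom E σ = AlgEquiv.restrictNormalHom E τ) : σ⁻¹ * τ ∈ E.fixingSubgroup := by
  rw [IntermediateField.mem_fixingSubgroup_iff]
  intro x hx
  have h' := AlgEquiv.restrictNormal_commutes σ E ⟨x, hx⟩
  have h'' := AlgEquiv.restrictNormal_commutes τ E ⟨x, hx⟩
  have e : σ x = τ x := h'.symm.trans ((congrArg (fun f : E ≃ₐ[K] E => ((f ⟨x, hx⟩ : E) : L)) h).trans h'')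
  show σ.symm (τ x) = x
  rw [← e]
  exact σ.symm_apply_apply x

theorem coe_restrictNormalHom (E : IntermediateField K L) [Normal K E] (σ : L ≃ₐ[K] L) (x : E) :
    ((AlgEquiv.restrictNormalHom E σ x : E) : L) = σ (x : L) :=
  AlgEquiv.restrictNormal_commutes σ E x

end Groth.GaloisBrauer.LocConst
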