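import Groth.Agent.CiFields.Basic
import Mathlib.GroupTheory.Sylow
import Mathlib.GroupTheory.IndexNormal
import Mathlib.FieldTheory.Galois.Basic
/-! # Norms of Galois extensions of `C₁` fields: surjectivity and kernel -/

universe u

namespace Groth.GaloisBrauer.NormKernel

open MvPolynomial

/-- Over a `C₁` field every element is a norm from any finite separable extension. -/
theorem norm_surjective {K L : Type u} [Field K] [Field L] [Algebra K L] [FiniteDimensional K L]
    (hK : Curves.IsCr K 1) : Function.Surjective (Algebra.norm K : L → K) := by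
  classical
  intro c
  by_cases hc : c = 0
  · exact ⟨0, by rw [Algebra.norm_zero, hc]⟩
  set n := Module.finrank K L
  let b := Module.finBasis K L
  let M : Matrix (Fin n) (Fin n) (MvPolynomial (Option (Fin n)) K) := Matrix.of fun a d =>
    ∑ i : Fin n, MvPolynomial.C (Algebra.leftMulMatrix b (b i) a d) * MvPolynomial.X (some i)
  let f : MvPolynomial (Option (Fin n)) K := M.det - MvPolynomial.C c * MvPolynomial.X none ^ n
  have hM : M.det.IsHomogeneous n := by
    rw [Matrix.det_apply]
    refine IsHomogeneous.sum _ _ _ fun s _ => ?_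
    rw [Units.smul_def, zsmul_eq_mul, ← map_intCast (C : K →+* MvPolynomial (Option (Fin n)) K)]
    refine IsHomogeneous.C_mul ?_ _
    have := IsHomogeneous.prod Finset.univ (fun a => M (s a) a) (fun _ => 1) (fun a _ => by
      show MvPolynomial.IsHomogeneous (∑ i : Fin n, _) 1
      exact IsHomogeneous.sum _ _ _ fun i _ => isHomogeneous_C_mul_X _ _)
    simpa using this
  have hf : f.IsHomogeneous n := hM.sub (IsHomogeneous.C_mul (isHomogeneous_X_pow _ _) _)
  obtain ⟨a, ha, h0⟩ := CiFields.exists_zero_of_isCr hK f n hf Module.finrank_pos (by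
    rw [pow_one, Fintype.card_option, Fintype.card_fin]; exact Nat.lt_succ_self n)
  let y : L := ∑ i, a (some i) • b i
  have hy : MvPolynomial.eval a M.det = Algebra.norm K y := by
    rw [Algebra.norm_eq_matrix_det b, RingHom.map_det]
    congr 1
    ext r s
    simp [M, y, map_sum, Matrix.sum_apply, mul_comm]
  rw [map_sub, map_mul, MvPolynomial.eval_C, map_pow, MvPolynomial.eval_X, hy, sub_eq_zero] at h0
  have ht : a none ≠ 0 := by
    intro ht
    rw [ht, zero_pow Module.finrank_pos.ne', mul_zero, Algebra.norm_eq_zero_iff] at h0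
    refine ha (funext fun o => ?_)
    cases o with
    | none => exact ht
    | some i => exact Fintype.linearIndependent_iff.1 b.linearIndependent (fun i => a (some i)) h0 i
  refine ⟨(a none)⁻¹ • y, ?_⟩
  rw [Algebra.smul_def, map_mul, Algebra.norm_algebraMap, h0, inv_pow]
  have : a none ^ Module.finrank K L ≠ 0 := pow_ne_zero _ ht
  field_simp
  rfl

variable {K L : Type u} [Field K] [Field L] [Algebra K L] [FiniteDimensional K L]

/-- The product of the conjugates under a subgroup. -/
noncomputable def nrm (H : Subgroup (L ≃ₐ[K] L)) : Lˣ →* Lˣ := by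
  classical exact ∏ h : H, Units.map ((h : L ≃ₐ[K] L).toAlgHom.toRingHom.toMonoidHom)

theorem nrm_apply (H : Subgroup (L ≃ₐ[K] L)) [Fintype H] (x : Lˣ) :
    (nrm H x : L) = ∏ h : H, (h : L ≃ₐ[K] L) (x : L) := by
  classical
  simp only [nrm, MonoidHom.finsetProd_apply, Units.coe_prod]
  exact Finset.prod_congr (Finset.ext fun _ => by simp) fun h _ => rfl

/-- The subgroup generated by the quotients `w / g w`. -/
noncomputable def aug (H : Subgroup (L ≃ₐ[K] L)) : Subgroup Lˣ :=
  Subgroup.closure {v : Lˣ | ∃ (w : Lˣ) (g : L ≃ₐ[K] L), g ∈ H ∧ (v : L) = (w : L) / g (w : L)}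

omit [FiniteDimensional K L] in
theorem aug_mono {H H' : Subgroup (L ≃ₐ[K] L)} (h : H' ≤ H) : aug H' ≤ aug H :=
  Subgroup.closure_mono fun _ ⟨w, g, hg, hv⟩ => ⟨w, g, h hg, hv⟩

omit [FiniteDimensional K L] in
theorem mem_aug {H : Subgroup (L ≃ₐ[K] L)} {g : L ≃ₐ[K] L} (hg : g ∈ H) (w : Lˣ) :
    Units.map g.toAlgHom.toRingHom.toMonoidHom w / w ∈ aug H := by
  rw [← inv_div]
  refine Subgroup.inv_mem _ (Subgroup.subset_closure ⟨w, g, hg, ?_⟩)
  rw [Units.val_div_eq_div_val]
  rfl

variable [IsGalois K L]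

/-- On a subgroup of prime power order, the kernel of the norm is generated by the `w / g w`. -/
theorem mem_aug_of_pGroup (hK : Curves.IsCr K 1) (p : ℕ) [hp : Fact p.Prime] :
    ∀ (n : ℕ) (H : Subgroup (L ≃ₐ[K] L)), Nat.card H = p ^ n → ∀ x : Lˣ, nrm H x = 1 → x ∈ aug H := by
  classical
  intro n
  induction n with
  | zero =>
    intro H hH x hx
    have : Subsingleton H := (Nat.card_eq_one_iff_unique.1 (by rw [hH, pow_zero])).1
    have h1 := congrArg Units.val hx
    rw [nrm_apply, Fintype.prod_subsingleton _ (1 : H)] at h1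
    rw [show x = 1 from Units.ext h1]
    exact one_mem _
  | succ n ih =>
    intro H hH x hx
    obtain ⟨N, hN⟩ := Sylow.exists_subgroup_card_pow_prime (G := H) p (n := n) (by rw [hH]; exact pow_dvd_pow p (Nat.le_succ n))
    have hidx : N.index = p := by
      have h := N.card_mul_index
      rw [hN, hH, pow_succ] at h
      exact Nat.eq_of_mul_eq_mul_left (pow_pos hp.out.pos n) h
    have : N.Normal := Subgroup.normal_of_index_eq_minFac_card (by
      rw [hidx, hH, Nat.pow_minFac (Nat.succ_ne_zero n), hp.out.minFac_eq])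
    let H' : Subgroup (L ≃ₐ[K] L) := N.map H.subtype
    have hH'le : H' ≤ H := Subgroup.map_subtype_le N
    let e : N ≃* H' := N.equivMapOfInjective H.subtype H.subtype_injective
    have hH' : Nat.card H' = p ^ n := by rw [← hN]; exact (Nat.card_congr e.toEquiv).symm
    obtain ⟨q, hq⟩ : ∃ q : H ⧸ N, q ≠ 1 := by
      by_contra! hall
      have : Subsingleton (H ⧸ N) := ⟨fun a b => (hall a).trans (hall b).symm⟩
      have h1 : Nat.card (H ⧸ N) = 1 := Nat.card_of_subsingleton 1
      rw [← Subgroup.index_eq_card, hidx] at h1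
      exact hp.out.one_lt.ne' h1
    obtain ⟨g, rfl⟩ := QuotientGroup.mk_surjective q
    have hord : orderOf (g : H ⧸ N) = p := orderOf_eq_prime (by
      rw [← hidx, Subgroup.index_eq_card]; exact pow_card_eq_one') hq
    have hbij : Function.Bijective fun z : Fin p × N => g ^ (z.1 : ℕ) * (z.2 : H) := by
      refine (Fintype.bijective_iff_injective_and_card _).2 ⟨?_, ?_⟩
      · rintro ⟨i, a⟩ ⟨j, b⟩ h
        have hij : (i : ℕ) = j := pow_injOn_Iio_orderOf (x := (g : H ⧸ N)) (by simp [hord]) (by simp [hord]) (by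
          have h' := congrArg (QuotientGroup.mk (s := N)) h
          simp only [QuotientGroup.mk_mul, QuotientGroup.mk_pow, (QuotientGroup.eq_one_iff (N := N) _).2 a.2,
            (QuotientGroup.eq_one_iff (N := N) _).2 b.2, mul_one] at h'
          exact h')
        obtain rfl := Fin.ext hij
        simp only [mul_right_inj] at h
        rw [Subtype.ext h]
      · rw [Fintype.card_prod, Fintype.card_fin, ← Nat.card_eq_fintype_card, ← Nat.card_eq_fintype_card, hN, hH]
        ring
    let G : ℕ → (L ≃ₐ[K] L) := fun i => ((g : L ≃ₐ[K] L)) ^ i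
    -- the partial norm
    let y : Lˣ := nrm H' x
    have hy : ∀ a : H', (a : L ≃ₐ[K] L) (y : L) = y := fun a => by
      show (a : L ≃ₐ[K] L) (nrm H' x : L) = (nrm H' x : L)
      rw [nrm_apply, map_prod]
      exact Equiv.prod_comp (Equiv.mulLeft a) fun h : H' => (h : L ≃ₐ[K] L) (x : L)
    have hnorm : ∏ i ∈ Finset.range p, G i (y : L) = 1 := by
      have h1 := congrArg Units.val hx
      rw [nrm_apply, ← (Equiv.ofBijective _ hbij).prod_comp, Fintype.prod_prod_type] at h1
      rw [← Fin.prod_univ_eq_prod_range (fun i => G i (y : L)), ← Units.val_one, ← h1]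
      refine Finset.prod_congr rfl fun i _ => ?_
      show G i (nrm H' x : L) = _
      rw [nrm_apply, map_prod]
      exact (Fintype.prod_equiv e.toEquiv _ _ fun a => rfl).symm
    -- the resolvent
    let c : ℕ → L := fun i => ∏ j ∈ Finset.range i, G j (y : L)
    have hGsucc : ∀ i z, (g : L ≃ₐ[K] L) (G i z) = G (i + 1) z := fun i z => by
      show _ = ((g : L ≃ₐ[K] L) ^ (i + 1)) z
      rw [pow_succ']; rfl
    have hc : ∀ i, (y : L) * (g : L ≃ₐ[K] L) (c i) = c (i + 1) := fun i => by
      show _ = ∏ j ∈ Finset.range (i + 1), G j (y : L)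
      rw [Finset.prod_range_succ', map_prod, mul_comm]
      simp only [hGsucc]
      congr 1
    obtain ⟨z, hz⟩ : ∃ z : L, ∑ s : Fin p × N, c s.1 * (g ^ (s.1 : ℕ) * (s.2 : H) : H).1 z ≠ 0 := by
      by_contra! hall
      have hind := (linearIndependent_monoidHom L L).comp
        (fun s : Fin p × N => ((((g ^ (s.1 : ℕ) * (s.2 : H) : H) : L ≃ₐ[K] L)) : L →* L)) (fun s t h => by
          refine hbij.1 (Subtype.ext (AlgEquiv.ext fun r => ?_))
          exact DFunLike.congr_fun h r)
      have h0 := Fintype.linearIndependent_iff.1 hind (fun s => c s.1) (funext fun r => by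
        simpa using hall r) (⟨0, hp.out.pos⟩, 1)
      simp [c] at h0
    let Z : L := ∑ a : N, ((a : H) : L ≃ₐ[K] L) z
    have hZ : ∀ a : H', (a : L ≃ₐ[K] L) Z = Z := fun a => by
      obtain ⟨a, rfl⟩ := e.surjective a
      simp only [Z, map_sum]
      exact Equiv.sum_comp (Equiv.mulLeft a) fun b : N => ((b : H) : L ≃ₐ[K] L) z
    let W : L := ∑ i ∈ Finset.range p, c i * G i Z
    have hW0 : W ≠ 0 := by
      refine fun h => hz ?_
      rw [← h, Fintype.sum_prod_type]
      simp only [W, Z, map_sum, Finset.mul_sum]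
      rw [← Fin.sum_univ_eq_sum_range (fun i => ∑ a : N, c i * G i (((a : H) : L ≃ₐ[K] L) z))]
      rfl
    have hgp : (g : L ≃ₐ[K] L) ^ p ∈ H' := ⟨g ^ p, (QuotientGroup.eq_one_iff (N := N) _).1 (by
      rw [QuotientGroup.mk_pow, ← hord, pow_orderOf_eq_one]), by simp⟩
    have hgW : (y : L) * (g : L ≃ₐ[K] L) W = W := by
      have h : ∀ i ∈ Finset.range p, (y : L) * (g : L ≃ₐ[K] L) (c i * G i Z) = c (i + 1) * G (i + 1) Z :=
        fun i _ => by rw [map_mul, ← mul_assoc, hc, hGsucc]
      have e0 : c p * G p Z = c 0 * G 0 Z := by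
        rw [show c p = 1 from hnorm, show c 0 = 1 from Finset.prod_range_zero _,
          show G p Z = Z from hZ ⟨_, hgp⟩, show G 0 Z = Z from rfl]
      simp only [W, map_sum, Finset.mul_sum]
      rw [Finset.sum_congr rfl h]
      refine add_right_cancel (b := c 0 * G 0 Z) ?_
      rw [← Finset.sum_range_succ' (fun i => c i * G i Z) p, Finset.sum_range_succ, e0]
    -- `W` is fixed by `H'`
    have hconj : ∀ (i : ℕ) (a : H'), ∃ a' : H', (a : L ≃ₐ[K] L) * G i = G i * (a' : L ≃ₐ[K] L) := by
      intro i a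
      obtain ⟨b, rfl⟩ := e.surjective a
      refine ⟨e ⟨(g ^ i)⁻¹ * (b : H) * g ^ i, by
        have := ‹N.Normal›.conj_mem _ b.2 (g ^ i)⁻¹
        rwa [inv_inv] at this⟩, ?_⟩
      show ((b : H) : L ≃ₐ[K] L) * _ = _
      show _ = G i * ((((g ^ i)⁻¹ * (b : H) * g ^ i : H)) : L ≃ₐ[K] L)
      simp [G, mul_assoc]
    have hWfix : ∀ a : H', (a : L ≃ₐ[K] L) W = W := fun a => by
      simp only [W, map_sum, map_mul]
      refine Finset.sum_congr rfl fun i _ => ?_
      congr 1
      · simp only [c, map_prod]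
        refine Finset.prod_congr rfl fun j _ => ?_
        obtain ⟨a', ha'⟩ := hconj j a
        show ((a : L ≃ₐ[K] L) * G j) (y : L) = _
        rw [ha', AlgEquiv.mul_apply, hy]
      · obtain ⟨a', ha'⟩ := hconj i a
        show ((a : L ≃ₐ[K] L) * G i) Z = _
        rw [ha', AlgEquiv.mul_apply, hZ]
    -- `W` is a norm from `L` to the fixed field of `H'`
    let M := IntermediateField.fixedField H'
    obtain ⟨v, hv⟩ := norm_surjective (L := L) (CiFields.isCr_one_of_finite (L := M) hK)
      ⟨W, fun a => hWfix a⟩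
    have hv' : ∏ a : H', (a : L ≃ₐ[K] L) v = W := by
      have h := congrArg (algebraMap M L) hv
      rw [Algebra.norm_eq_prod_automorphisms] at h
      refine Eq.trans ?_ h
      have hHM : M.fixingSubgroup = H' := IntermediateField.fixingSubgroup_fixedField H'
      exact Fintype.prod_equiv ((MulEquiv.subgroupCongr hHM.symm).toEquiv.trans (IntermediateField.fixingSubgroupEquiv M).toEquiv)
        _ _ fun a => rfl
    have hv0 : v ≠ 0 := fun h => hW0 (by rw [← hv', h]; simp)
    let vu : Lˣ := Units.mk0 v hv0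
    let gv : Lˣ := Units.map (g : L ≃ₐ[K] L).toAlgHom.toRingHom.toMonoidHom vu
    have hWv : (nrm H' vu : L) = W := by rw [nrm_apply]; exact hv'
    have hWgv : (nrm H' gv : L) = (g : L ≃ₐ[K] L) W := by
      rw [nrm_apply, ← hv', map_prod]
      show ∏ a : H', (a : L ≃ₐ[K] L) ((g : L ≃ₐ[K] L) v) = _
      let ψ : N ≃ N := (MulAut.conjNormal (H := N) g⁻¹).toEquiv
      rw [← e.toEquiv.prod_comp, ← e.toEquiv.prod_comp]
      refine Fintype.prod_equiv ψ _ _ fun a => ?_
      show ((a : H) : L ≃ₐ[K] L) ((g : L ≃ₐ[K] L) v) =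
        (g : L ≃ₐ[K] L) (((MulAut.conjNormal (H := N) g⁻¹ a : N) : H).1 v)
      rw [MulAut.conjNormal_apply, inv_inv]
      simp [AlgEquiv.mul_apply]
    have hker : nrm H' (x * (gv / vu)) = 1 := by
      refine Units.ext ?_
      rw [map_mul, map_div, Units.val_mul, Units.val_div_eq_div_val, hWv, hWgv, Units.val_one, ← mul_div_assoc,
        show (nrm H' x : L) = (y : L) from rfl, hgW, div_self hW0]
    have h1 := aug_mono hH'le (ih H' hH' _ hker)
    have h2 := mem_aug g.2 vu
    exact (Subgroup.mul_mem_cancel_right _ h2).1 h1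

/-- The kernel of the norm is generated by the `w / g w`. -/
theorem mem_aug_of_norm_eq_one (hK : Curves.IsCr K 1) (x : Lˣ) (hx : Algebra.norm K (x : L) = 1) :
    x ∈ aug (⊤ : Subgroup (L ≃ₐ[K] L)) := by
  classical
  have hprod : ∏ σ : L ≃ₐ[K] L, σ (x : L) = 1 := by
    rw [← Algebra.norm_eq_prod_automorphisms, hx, map_one]
  let A := aug (⊤ : Subgroup (L ≃ₐ[K] L))
  let π := QuotientGroup.mk' A
  have hstep : ∀ (p : ℕ) [Fact p.Prime] (P : Sylow p (L ≃ₐ[K] L)), π x ^ (P : Subgroup (L ≃ₐ[K] L)).index = 1 := by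
    intro p _ P
    let Q : Subgroup (L ≃ₐ[K] L) := P
    let w : (L ≃ₐ[K] L) ⧸ Q → Lˣ := fun q => Units.map (q.out⁻¹).toAlgHom.toRingHom.toMonoidHom x
    have hb : Function.Bijective fun z : ((L ≃ₐ[K] L) ⧸ Q) × Q => z.1.out * (z.2 : L ≃ₐ[K] L) := by
      refine (Fintype.bijective_iff_injective_and_card _).2 ⟨?_, ?_⟩
      · rintro ⟨q, a⟩ ⟨q', a'⟩ h
        have h' := congrArg (QuotientGroup.mk (s := Q)) h
        simp only [QuotientGroup.mk_mul_of_mem _ a.2, QuotientGroup.mk_mul_of_mem _ a'.2, QuotientGroup.out_eq'] at h'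
        subst h'
        simp only [mul_right_inj] at h
        rw [Subtype.ext h]
      · simpa only [Fintype.card_prod, Nat.card_eq_fintype_card] using (Subgroup.card_eq_card_quotient_mul_card_subgroup Q).symm
    have h1 : nrm Q (∏ q, w q) = 1 := by
      refine Units.ext ?_
      rw [nrm_apply, Units.val_one, ← hprod, ← Equiv.prod_comp (Equiv.inv (L ≃ₐ[K] L)) (fun σ : L ≃ₐ[K] L => σ (x : L)),
        ← (Equiv.ofBijective _ hb).prod_comp, Fintype.prod_prod_type, Finset.prod_comm,
        ← Equiv.prod_comp (Equiv.inv Q)]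
      refine Finset.prod_congr rfl fun a _ => ?_
      rw [Units.coe_prod, map_prod]
      refine Finset.prod_congr rfl fun q _ => ?_
      show ((a⁻¹ : Q) : L ≃ₐ[K] L) (q.out⁻¹ (x : L)) = (q.out * (a : L ≃ₐ[K] L))⁻¹ (x : L)
      rw [mul_inv_rev]
      rfl
    obtain ⟨m, hm⟩ := (P.isPGroup').exists_card_eq
    have h2 : ∏ q, w q ∈ A := aug_mono le_top (mem_aug_of_pGroup hK p m Q hm _ h1)
    have h3 : ∀ q, π (w q) = π x := fun q => by
      refine div_eq_one.1 ?_
      rw [← map_div π]
      exact (QuotientGroup.eq_one_iff _).2 (mem_aug (Subgroup.mem_top _) x)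
    have h4 : π (∏ q, w q) = 1 := (QuotientGroup.eq_one_iff _).2 h2
    rw [map_prod, Finset.prod_congr rfl fun q _ => h3 q, Finset.prod_const, Finset.card_univ] at h4
    rwa [Subgroup.index_eq_card, Nat.card_eq_fintype_card]
  refine (QuotientGroup.eq_one_iff _).1 (orderOf_eq_one_iff.1 ?_)
  by_contra hne
  obtain ⟨p, hp, hdvd⟩ := Nat.exists_prime_and_dvd hne
  have : Fact p.Prime := ⟨hp⟩
  let P : Sylow p (L ≃ₐ[K] L) := default
  exact Sylow.not_dvd_index P (hdvd.trans (orderOf_dvd_of_pow_eq_one (hstep p P)))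

end Groth.GaloisBrauer.NormKernel
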