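import Mathlib.CategoryTheory.Sites.Whiskering
import Mathlib.CategoryTheory.Sites.SheafOfTypes
import Mathlib.CategoryTheory.Limits.Shapes.BinaryProducts
import Mathlib.Algebra.Category.Grp.Basic
import Mathlib.Algebra.Category.Grp.Preadditive
import Mathlib.Algebra.Category.Grp.Limits
import Mathlib.Algebra.BigOperators.Group.Finset.Basic

/-!
The trace along a covering split by a Galois object, on an abstract site.
-/

set_option autoImplicit false

universe w v u

open CategoryTheory CategoryTheory.Limits Opposite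

namespace Groth.GaloisBrauer.SiteTrace

variable {C : Type u} [Category.{v} C]

/-- A choice of products with a fixed object. -/
structure ProdWith (A : C) where
  /-- The product functor. -/
  P : C ⥤ C
  /-- The first projection. -/
  p : P ⟶ 𝟭 C
  /-- The second projection. -/
  q : ∀ W, P.obj W ⟶ A
  q_nat : ∀ {W W' : C} (f : W ⟶ W'), P.map f ≫ q W' = q W
  lift : ∀ {Z W : C}, (Z ⟶ W) → (Z ⟶ A) → (Z ⟶ P.obj W)
  lift_p : ∀ {Z W : C} (a : Z ⟶ W) (b : Z ⟶ A), lift a b ≫ p.app W = a
  lift_q : ∀ {Z W : C} (a : Z ⟶ W) (b : Z ⟶ A), lift a b ≫ q W = b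
  hom_ext : ∀ {Z W : C} (a b : Z ⟶ P.obj W), a ≫ p.app W = b ≫ p.app W → a ≫ q W = b ≫ q W → a = b

variable {A B : C} (PA : ProdWith A) (PB : ProdWith B)

/-- The map of products induced by a map of the second factors. -/
def ProdWith.mapSnd (σ : B ⟶ A) (W : C) : PB.P.obj W ⟶ PA.P.obj W :=
  PA.lift (PB.p.app W) (PB.q W ≫ σ)

lemma ProdWith.mapSnd_p (σ : B ⟶ A) (W : C) : PA.mapSnd PB σ W ≫ PA.p.app W = PB.p.app W :=
  PA.lift_p _ _

lemma ProdWith.mapSnd_q (σ : B ⟶ A) (W : C) : PA.mapSnd PB σ W ≫ PA.q W = PB.q W ≫ σ :=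
  PA.lift_q _ _

lemma ProdWith.mapSnd_nat (σ : B ⟶ A) {W W' : C} (f : W ⟶ W') :
    PB.P.map f ≫ PA.mapSnd PB σ W' = PA.mapSnd PB σ W ≫ PA.P.map f := by
  refine PA.hom_ext _ _ ?_ ?_
  · rw [Category.assoc, PA.mapSnd_p, Category.assoc, PA.p.naturality, ← Category.assoc,
      PA.mapSnd_p, PB.p.naturality]
  · rw [Category.assoc, PA.mapSnd_q, Category.assoc, PA.q_nat, PA.mapSnd_q, ← Category.assoc,
      PB.q_nat]

variable (J : GrothendieckTopology C) [J.HasSheafCompose (forget AddCommGrpCat.{w})] [Fintype (B ⟶ A)]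
  (F : Sheaf J AddCommGrpCat.{w})

/-- The sum of the pullbacks along all maps from `B` to `A`. -/
def traceAux (W : C) (s : F.obj.obj (op (PA.P.obj W))) : F.obj.obj (op (PB.P.obj W)) :=
  ∑ σ : B ⟶ A, F.obj.map (PA.mapSnd PB σ W).op s

lemma traceAux_nat {W W' : C} (f : W ⟶ W') (s : F.obj.obj (op (PA.P.obj W'))) :
    F.obj.map (PB.P.map f).op (traceAux PA PB J F W' s) =
      traceAux PA PB J F W (F.obj.map (PA.P.map f).op s) := by
  rw [traceAux, map_sum, traceAux]
  refine Finset.sum_congr rfl fun σ _ => ?_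
  rw [← ConcreteCategory.comp_apply, ← ConcreteCategory.comp_apply, ← Functor.map_comp,
    ← Functor.map_comp, ← op_comp, ← op_comp, PA.mapSnd_nat PB σ f]

variable (hcov : ∀ W : C, Sieve.generate (Presieve.singleton (PB.p.app W)) ∈ J W)
  (hauto : ∀ (Z : C) (b₁ b₂ : Z ⟶ B), ∃ S ∈ J Z, ∀ (Z' : C) (h : Z' ⟶ Z), S h →
    ∃ τ : B ≅ B, h ≫ b₂ = h ≫ b₁ ≫ τ.hom)

include hauto in
lemma traceAux_compatible (W : C) (s : F.obj.obj (op (PA.P.obj W))) {Z : C}
    (g₁ g₂ : Z ⟶ PB.P.obj W) (hg : g₁ ≫ PB.p.app W = g₂ ≫ PB.p.app W) :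
    F.obj.map g₁.op (traceAux PA PB J F W s) = F.obj.map g₂.op (traceAux PA PB J F W s) := by
  obtain ⟨S, hS, hτ⟩ := hauto Z (g₁ ≫ PB.q W) (g₂ ≫ PB.q W)
  have hsh : Presieve.IsSheaf J (F.obj ⋙ forget AddCommGrpCat.{w}) :=
    (isSheaf_iff_isSheaf_of_type _ _).1 ((sheafCompose J (forget AddCommGrpCat.{w})).obj F).property
  refine (hsh S hS).isSeparatedFor.ext fun Z' h hh => ?_
  show F.obj.map h.op (F.obj.map g₁.op _) = F.obj.map h.op (F.obj.map g₂.op _)
  obtain ⟨τ, hτ'⟩ := hτ Z' h hh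
  simp only [traceAux, map_sum, ← ConcreteCategory.comp_apply, ← Functor.map_comp, ← op_comp]
  let e : (B ⟶ A) ≃ (B ⟶ A) :=
    ⟨fun σ => τ.inv ≫ σ, fun σ => τ.hom ≫ σ, fun σ => by simp, fun σ => by simp⟩
  refine Fintype.sum_equiv e _ _ fun σ => ?_
  refine congrArg (fun k : Z' ⟶ PA.P.obj W => F.obj.map k.op s) ?_
  refine PA.hom_ext _ _ ?_ ?_
  · simp only [Category.assoc, PA.mapSnd_p, hg]
  · simp only [Category.assoc, PA.mapSnd_q, e, Equiv.coe_fn_mk]
    have := congrArg (· ≫ τ.inv ≫ σ) hτ'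
    simp only [Category.assoc, Iso.hom_inv_id_assoc] at this
    exact this.symm

include hcov hauto in
theorem existsUnique_trace (W : C) (s : F.obj.obj (op (PA.P.obj W))) :
    ∃! r : F.obj.obj (op W), F.obj.map (PB.p.app W).op r = traceAux PA PB J F W s := by
  have hsh : Presieve.IsSheaf J (F.obj ⋙ forget AddCommGrpCat.{w}) :=
    (isSheaf_iff_isSheaf_of_type _ _).1 ((sheafCompose J (forget AddCommGrpCat.{w})).obj F).property
  exact Presieve.isSheafFor_singleton.1
    ((Presieve.isSheafFor_iff_generate _).2 (hsh _ (hcov W))) _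
    fun g₁ g₂ hg => traceAux_compatible PA PB J F hauto W s g₁ g₂ hg

/-- The trace. -/
noncomputable def trace (W : C) (s : F.obj.obj (op (PA.P.obj W))) : F.obj.obj (op W) :=
  (existsUnique_trace PA PB J F hcov hauto W s).choose

lemma map_p_trace (W : C) (s : F.obj.obj (op (PA.P.obj W))) :
    F.obj.map (PB.p.app W).op (trace PA PB J F hcov hauto W s) = traceAux PA PB J F W s :=
  (existsUnique_trace PA PB J F hcov hauto W s).choose_spec.1

include hcov in
lemma map_p_injective (W : C) : Function.Injective (F.obj.map (PB.p.app W).op) := by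
  have hsh : Presieve.IsSheaf J (F.obj ⋙ forget AddCommGrpCat.{w}) :=
    (isSheaf_iff_isSheaf_of_type _ _).1 ((sheafCompose J (forget AddCommGrpCat.{w})).obj F).property
  exact Presieve.isSeparatedFor_singleton.1
    ((Presieve.isSheafFor_iff_generate _).2 (hsh _ (hcov W))).isSeparatedFor

lemma trace_add (W : C) (s t : F.obj.obj (op (PA.P.obj W))) :
    trace PA PB J F hcov hauto W (s + t) =
      trace PA PB J F hcov hauto W s + trace PA PB J F hcov hauto W t := by
  refine map_p_injective PB J F hcov W ?_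
  rw [map_add, map_p_trace, map_p_trace, map_p_trace]
  simp [traceAux, Finset.sum_add_distrib]

lemma trace_nat {W W' : C} (f : W ⟶ W') (s : F.obj.obj (op (PA.P.obj W'))) :
    trace PA PB J F hcov hauto W (F.obj.map (PA.P.map f).op s) =
      F.obj.map f.op (trace PA PB J F hcov hauto W' s) := by
  refine map_p_injective PB J F hcov W ?_
  rw [map_p_trace, ← traceAux_nat, ← map_p_trace PA PB J F hcov hauto W' s,
    ← ConcreteCategory.comp_apply, ← ConcreteCategory.comp_apply, ← Functor.map_comp, ← Functor.map_comp,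
    ← op_comp, ← op_comp]
  exact congrArg (fun k => F.obj.map k.op _) (PB.p.naturality f)

lemma trace_natural_sheaf {G : Sheaf J AddCommGrpCat.{w}} (φ : F ⟶ G) (W : C)
    (s : F.obj.obj (op (PA.P.obj W))) :
    trace PA PB J G hcov hauto W (φ.hom.app _ s) = φ.hom.app _ (trace PA PB J F hcov hauto W s) := by
  refine map_p_injective PB J G hcov W ?_
  rw [map_p_trace]
  refine Eq.trans ?_ (NatTrans.naturality_apply φ.hom (PB.p.app W).op _)
  rw [map_p_trace, traceAux, traceAux, map_sum]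
  exact Finset.sum_congr rfl fun σ _ => (NatTrans.naturality_apply φ.hom _ s).symm

lemma trace_map_p (W : C) (s : F.obj.obj (op W)) :
    trace PA PB J F hcov hauto W (F.obj.map (PA.p.app W).op s) = Fintype.card (B ⟶ A) • s := by
  refine map_p_injective PB J F hcov W ?_
  rw [map_p_trace, map_nsmul, traceAux, Finset.sum_eq_card_nsmul (b := F.obj.map (PB.p.app W).op s)]
  · rw [Finset.card_univ]
  · intro σ _
    rw [← ConcreteCategory.comp_apply, ← Functor.map_comp, ← op_comp, PA.mapSnd_p]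

/-- The trace, as a morphism of presheaves. -/
noncomputable def traceHom : PA.P.op ⋙ F.obj ⟶ F.obj where
  app W := AddCommGrpCat.ofHom
    (AddMonoidHom.mk' (trace PA PB J F hcov hauto W.unop) (trace_add PA PB J F hcov hauto W.unop))
  naturality W W' f := by
    ext s
    exact trace_nat PA PB J F hcov hauto f.unop s

end Groth.GaloisBrauer.SiteTrace
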